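import Groth.Agent.Lib.C1.Push
import Groth.Agent.Lib.C1.FlatGysin
import Groth.Agent.Lib.CycDiv.RatEquiv
import Groth.Agent.Lib.CycFlat.Length
import Groth.Agent.Lib.RelReg.FibreLift
import Groth.Agent.Lib.PBDeg17.GysinCap
import Groth.Agent.Lib.PBDeg17.Split
import Groth.Agent.Lib.ChowStrata17.Basic
import Groth.Agent.Lib.Snapper.TopDecomp
import Groth.Prelude.Def_IntMult

/-!
# Exterior products with the class of a point's closure
-/

set_option autoImplicit false
set_option linter.style.haveILetI false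
set_option linter.unusedVariables false

universe u

open CategoryTheory CategoryTheory.Limits AlgebraicGeometry IsLocalRing
open GrothLib.CycDiv GrothLib.CycFlat

noncomputable section

namespace GrothLib.ExtP17

open GrothLib GrothLib.C1 GrothLib.PBDeg

variable {K : Type u} [Field K] {X Y P : Scheme.{u}} {p : P ⟶ X} {q : P ⟶ Y} {f : X ⟶ Spec (CommRingCat.of K)}
  {g : Y ⟶ Spec (CommRingCat.of K)} [LocallyOfFiniteType f] [LocallyOfFiniteType g]
  {δX : X → ℤ} {δY : Y → ℤ} {δ : P → ℤ}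

open Classical in
/-- The exterior product with the class of the closure of a point. -/
def pointProd (p : P ⟶ X) (q : P ⟶ Y) (δX : X → ℤ) (δY : Y → ℤ) (δ : P → ℤ) (a : X → ℤ) (y₀ : Y) (z : P) : ℤ :=
  if q z = y₀ ∧ δ z = δX (p z) + δY y₀ then
    a (p z) * ((Module.length (P.presheaf.stalk z) (P.presheaf.stalk z ⧸
      ((maximalIdeal (X.presheaf.stalk (p z))).map (p.stalkMap z).hom ⊔
        (maximalIdeal (Y.presheaf.stalk (q z))).map (q.stalkMap z).hom))).toNat : ℤ)
  else 0

variable (hX : Cyc.DeltaCompat f δX (fun _ => 0)) (hY : Cyc.DeltaCompat g δY (fun _ => 0))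
  (hsq : IsPullback p q f g) (hP : Cyc.DeltaCompat (p ≫ f) δ (fun _ => 0))

include hX hY hsq hP in
theorem setups : Cyc.IsSetup X δX ∧ Cyc.IsSetup Y δY ∧ Cyc.IsSetup P δ := by
  haveI : LocallyOfFiniteType p := MorphismProperty.of_isPullback (P := @LocallyOfFiniteType) hsq.flip inferInstance
  exact ⟨isSetup_of_lft (ChowStrata17.isSetup_point K) f hX, isSetup_of_lft (ChowStrata17.isSetup_point K) g hY,
    isSetup_of_lft (ChowStrata17.isSetup_point K) (p ≫ f) hP⟩

theorem map_maximalIdeal_stalkCongr {a b : Y} (e : a = b) (h : Inseparable a b) :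
    (maximalIdeal (Y.presheaf.stalk a)).map (Y.presheaf.stalkCongr h).hom.hom = maximalIdeal (Y.presheaf.stalk b) := by
  subst e
  rw [show (Y.presheaf.stalkCongr h).hom = 𝟙 _ from Y.presheaf.stalkSpecializes_refl a, CommRingCat.hom_id, Ideal.map_id]

include hX hY hsq hP in
/-- The product with the closure of a point is flat over the first factor. -/
theorem exists_model (y₀ : Y) : ∃ (P' : Scheme.{u}) (j : P' ⟶ P) (_ : IsClosedImmersion j) (s : ℕ),
    δY y₀ = (s : ℤ) ∧ Flat (j ≫ p) ∧ (∀ z, z ∈ Set.range j ↔ y₀ ⤳ q z) ∧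
      (∀ w, MaxFib (j ≫ p) w → δ (j w) = δX ((j ≫ p) w) + (s : ℤ)) ∧
      ∀ w, q (j w) = y₀ →
        RingHom.ker (j.stalkMap w).hom = (maximalIdeal (Y.presheaf.stalk (q (j w)))).map (q.stalkMap (j w)).hom := by
  classical
  obtain ⟨hXs, hYs, hPs⟩ := setups hX hY hsq hP
  haveI := hXs.1
  haveI := hYs.1
  haveI := hPs.1
  let I := Scheme.IdealSheafData.vanishingIdeal (⟨closure {y₀}, isClosed_closure⟩ : TopologicalSpace.Closeds Y)
  let W := I.subscheme
  let ι : W ⟶ Y := I.subschemeι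
  have hrange : Set.range ι = closure {y₀} := by
    rw [Scheme.IdealSheafData.range_subschemeι]
    exact Scheme.IdealSheafData.coe_support_vanishingIdeal _
  obtain ⟨η, hη⟩ : y₀ ∈ Set.range ι := hrange.symm ▸ subset_closure (Set.mem_singleton y₀)
  have hgen : ∀ w : W, η ⤳ w := fun w => ι.isClosedEmbedding.isInducing.specializes_iff.1 <| by
    rw [hη, specializes_iff_mem_closure]
    exact hrange ▸ ⟨w, rfl⟩
  haveI : IsIntegral W := Snapper.isIntegral_pt y₀
  have hker : RingHom.ker (ι.stalkMap η).hom = maximalIdeal (Y.presheaf.stalk (ι η)) := by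
    have hηg : genericPoint W = η := (genericPoint_spec W).eq
      (Set.eq_univ_of_forall fun w => specializes_iff_mem_closure.1 (hgen w))
    have hF : IsField (W.presheaf.stalk η) := by
      rw [← hηg]
      exact Field.toIsField W.functionField
    letI := hF.toField
    haveI : (RingHom.ker (ι.stalkMap η).hom).IsMaximal :=
      RingHom.ker_isMaximal_of_surjective _ (ι.stalkMap_surjective η)
    exact IsLocalRing.eq_maximalIdeal inferInstance
  let P' := pullback q ι
  let j : P' ⟶ P := pullback.fst q ι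
  let q' : P' ⟶ W := pullback.snd q ι
  have hj : IsPullback j q' q ι := IsPullback.of_hasPullback q ι
  have hsq' : IsPullback (j ≫ p) q' f (ι ≫ g) := hj.paste_horiz hsq
  haveI : IsClosedImmersion j := MorphismProperty.of_isPullback (P := @IsClosedImmersion) hj.flip inferInstance
  have hWg : Cyc.DeltaCompat (ι ≫ g) (fun w => δY (ι w)) (fun _ => 0) :=
    deltaCompat_comp' ι g (deltaCompat_closed ι δY) hY
  have hPc : Cyc.DeltaCompat ((j ≫ p) ≫ f) (fun w => δ (j w)) (fun _ => 0) := by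
    rw [Category.assoc]
    exact deltaCompat_comp' j (p ≫ f) (deltaCompat_closed j δ) hP
  have hc : Cyc.DeltaCompat (j ≫ p) (fun w => δ (j w)) δX :=
    C1.deltaCompat_of_comp (j ≫ p) f ((j ≫ p) ≫ f) rfl hX hPc
  obtain ⟨s, hsη⟩ : ∃ s : ℕ, δY y₀ = s := by
    obtain ⟨m, -, hm⟩ := hY y₀
    exact ⟨m, by simpa using hm⟩
  have hWrel : Cyc.HasRelDim (ι ≫ g) s := (hasRelDim_iff (ι ≫ g) s).2 fun w hw => by
    obtain rfl : η = w := hw η (Subsingleton.elim (α := PrimeSpectrum K) _ _) (hgen w)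
    obtain ⟨m, hm, hmd⟩ := hWg η
    have : m = s := by
      have e : δY (ι η) = δY y₀ := congrArg δY hη
      have : δY (ι η) = (0 : ℤ) + m := hmd
      omega
    exact this ▸ hm
  haveI : Flat (ι ≫ g) := by
    haveI : Subsingleton ↥(Spec (CommRingCat.of K)) := inferInstanceAs (Subsingleton (PrimeSpectrum K))
    infer_instance
  haveI : LocallyOfFiniteType (j ≫ p) :=
    MorphismProperty.of_isPullback (P := @LocallyOfFiniteType) hsq'.flip inferInstance
  refine ⟨P', j, inferInstance, s, hsη, MorphismProperty.of_isPullback (P := @Flat) hsq'.flip inferInstance,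
    fun z => ?_, CycFlat.shift_of_hasRelDim (j ≫ p) (hasRelDim_of_isPullback hsq'.flip hWrel) hc, fun w hw => ?_⟩
  · rw [range_of_isPullback hj, Set.mem_preimage, hrange, specializes_iff_mem_closure]
  obtain ⟨U, hU, hyU, -⟩ := exists_isAffineOpen_mem_and_subset (x := ι η) (U := ⊤) trivial
  rw [RelReg.ker_stalkMap_of_isPullback hj.flip ⟨U, hU⟩ inferInstance η hyU w (hw.trans hη.symm), hker,
    CommRingCat.hom_comp, ← Ideal.map_map, map_maximalIdeal_stalkCongr (hw.trans hη.symm).symm]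

include hX hY hsq hP in
theorem delta_le (z : P) : δ z ≤ δX (p z) + δY (q z) := by
  obtain ⟨hXs, hYs, hPs⟩ := setups hX hY hsq hP
  haveI := hPs.1
  obtain ⟨P', j, hjc, s, hs, hflat, hr, hsh, -⟩ := exists_model hX hY hsq hP (q z)
  obtain ⟨w, rfl⟩ := (hr z).2 specializes_rfl
  have := (eq_add_iff_maxFib (j ≫ p) (CycPush.isDimFun_closedImmersion j hPs.2.2) hsh w).2
  rw [Scheme.Hom.comp_apply] at this
  simp only [Function.comp_apply] at this
  omega

include hX hY hsq hP in
/-- The product with a point is the pullback to the product with its closure. -/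
theorem pointProd_model {y₀ : Y} {P' : Scheme.{u}} {j : P' ⟶ P} [IsClosedImmersion j] {s : ℕ} (hsη : δY y₀ = (s : ℤ))
    (hr : ∀ z, z ∈ Set.range j ↔ y₀ ⤳ q z)
    (hker : ∀ w, q (j w) = y₀ →
      RingHom.ker (j.stalkMap w).hom = (maximalIdeal (Y.presheaf.stalk (q (j w)))).map (q.stalkMap (j w)).hom)
    (α : AlgebraicCycle X ℤ) (w : P') :
    pointProd p q δX δY δ ⇑α y₀ (j w) = Cyc.pullFun (j ≫ p) (fun w => δ (j w)) δX s ⇑α w := by
  classical
  obtain ⟨hXs, hYs, hPs⟩ := setups hX hY hsq hP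
  rw [pullFun_apply, pointProd, Scheme.Hom.comp_apply]
  by_cases hd : δ (j w) = δX (p (j w)) + (s : ℤ)
  swap
  · rw [if_neg (fun h' => hd (by rw [h'.2, hsη])), if_neg hd]
  have hq0 : q (j w) = y₀ := by
    by_contra hne
    have h1 := (hYs.2.2 y₀ (q (j w)) ((hr _).1 ⟨w, rfl⟩) (Ne.symm hne)).1
    have h2 := delta_le hX hY hsq hP (j w)
    omega
  rw [if_pos ⟨hq0, by rw [hsη]; exact hd⟩, if_pos hd]
  congr 3
  have hcomp : ((j ≫ p).stalkMap w).hom = (j.stalkMap w).hom.comp (p.stalkMap (j w)).hom := by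
    rw [Scheme.Hom.stalkMap_comp]
    rfl
  rw [CycFlat.fibLength, hcomp]
  rw [C1.length_quot_of_surjective _ (j.stalkMap_surjective w) _
    ((hker w hq0).le.trans le_sup_right), Ideal.map_sup, ← hker w hq0]
  rw [(Ideal.map_eq_bot_iff_le_ker _).2 le_rfl, sup_bot_eq]
  exact congrArg (fun I : Ideal (P'.presheaf.stalk w) => Module.length (P'.presheaf.stalk w) (P'.presheaf.stalk w ⧸ I))
    (Ideal.map_map _ _)

include hX hY hsq hP in
/-- Exterior product with a point preserves rational equivalence to zero. -/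
theorem rz_pointProd (y₀ : Y) {r : ℤ} {α : AlgebraicCycle X ℤ} (h : Cyc.RatEquivZero δX r α) :
    RZ δ (r + δY y₀) (pointProd p q δX δY δ ⇑α y₀) := by
  classical
  obtain ⟨hXs, hYs, hPs⟩ := setups hX hY hsq hP
  haveI := hXs.1
  haveI := hPs.1
  obtain ⟨P', j, hjc, s, hsη, hflat, hr, hsh, hker⟩ := exists_model hX hY hsq hP y₀
  haveI : IsLocallyNoetherian P' := LocallyOfFiniteType.isLocallyNoetherian j
  have hdP' : Cyc.IsDimFun P' (fun w => δ (j w)) := CycPush.isDimFun_closedImmersion j hPs.2.2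
  let γ : AlgebraicCycle P' ℤ := toCycle _ (lf_pullFun (j ≫ p) hdP' hsh (LF.of_cycle α))
  have hγ := CycDiv.ratEquivZero_pullFun (j ≫ p) hdP' hXs.2.2 hsh r α h γ rfl
  rw [hsη]
  refine C1.rz_push j hPs.2.2 (RZ.of_ratEquivZero hdP' hγ) (fun w => ?_) fun z hz => ?_
  swap
  · exact if_neg fun (h' : q z = y₀ ∧ δ z = δX (p z) + δY y₀) => hz ((hr z).2 (h'.1 ▸ specializes_rfl))
  exact pointProd_model hX hY hsq hP hsη hr hker α w

end GrothLib.ExtP17

end
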