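import Groth.Agent.Lib.ExtP17.Point
import Groth.Agent.Lib.PBDeg17.Chern

/-!
# Exterior products respect rational equivalence
-/

set_option autoImplicit false
set_option linter.style.haveILetI false
set_option linter.unusedVariables false

universe u

open CategoryTheory CategoryTheory.Limits AlgebraicGeometry IsLocalRing
open GrothLib.CycDiv

noncomputable section

namespace GrothLib.ExtP17

open GrothLib GrothLib.C1

theorem finite_support {X : Scheme.{u}} [CompactSpace X] (α : AlgebraicCycle X ℤ) : {x | α x ≠ 0}.Finite := by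
  choose U hU hfin using fun x => LF.of_cycle α x
  obtain ⟨t, ht⟩ := isCompact_univ.elim_finite_subcover (fun x => (U x : Set X)) (fun x => (U x).isOpen)
    fun x _ => Set.mem_iUnion.2 ⟨x, hU x⟩
  refine ((t.finite_toSet.biUnion fun x _ => hfin x)).subset fun y hy => ?_
  obtain ⟨x, hx, hy'⟩ := Set.mem_iUnion₂.1 (ht (Set.mem_univ y))
  exact Set.mem_iUnion₂.2 ⟨x, hx, hy', hy⟩

theorem rz_zsmul {P : Scheme.{u}} [IsLocallyNoetherian P] {δ : P → ℤ} (hδ : Cyc.IsDimFun P δ) {k : ℤ} {a : P → ℤ}
    (ha : RZ δ k a) (n : ℤ) : RZ δ k (fun z => n * a z) := by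
  induction n using Int.induction_on with
  | zero => exact (RZ.zero hδ k).congr fun z => by simp
  | succ i ih => exact (ih.add hδ ha).congr fun z => by simp [add_mul]
  | pred i ih => exact (ih.sub hδ ha).congr fun z => by simp [sub_mul]

variable {K : Type u} [Field K] {X Y P : Scheme.{u}} {p : P ⟶ X} {q : P ⟶ Y} {f : X ⟶ Spec (CommRingCat.of K)}
  {g : Y ⟶ Spec (CommRingCat.of K)} [LocallyOfFiniteType f] [LocallyOfFiniteType g]
  {δX : X → ℤ} {δY : Y → ℤ} {δ : P → ℤ}

/-- Exterior product with a cycle preserves rational equivalence to zero. -/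
theorem rz_extProd (hX : Cyc.DeltaCompat f δX (fun _ => 0)) (hY : Cyc.DeltaCompat g δY (fun _ => 0))
    (hsq : IsPullback p q f g) (hP : Cyc.DeltaCompat (p ≫ f) δ (fun _ => 0)) [CompactSpace Y] {r s : ℤ}
    {α : AlgebraicCycle X ℤ} {β : AlgebraicCycle Y ℤ} (hβ : β ∈ Cyc.Zk Y δY s) (h : Cyc.RatEquivZero δX r α) {c : P → ℤ}
    (hc : ∀ z, c z = if δ z = δX (p z) + δY (q z) then α (p z) * β (q z) *
      ((Module.length (P.presheaf.stalk z) (P.presheaf.stalk z ⧸
        ((maximalIdeal (X.presheaf.stalk (p z))).map (p.stalkMap z).hom ⊔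
          (maximalIdeal (Y.presheaf.stalk (q z))).map (q.stalkMap z).hom))).toNat : ℤ) else 0) :
    RZ δ (r + s) c := by
  classical
  obtain ⟨-, -, hPs⟩ := setups hX hY hsq hP
  haveI := hPs.1
  refine (PBDeg.rz_sum (finite_support β).toFinset hPs.2.2 (fun y z => β y * pointProd p q δX δY δ ⇑α y z)
    fun y hy => ?_).congr fun z => ?_
  · have hys : δY y = s := by_contra fun e => (finite_support β).mem_toFinset.1 hy (hβ y e)
    exact rz_zsmul hPs.2.2 (hys ▸ rz_pointProd hX hY hsq hP y h) (β y)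
  show c z = ∑ y ∈ (finite_support β).toFinset, β y * pointProd p q δX δY δ ⇑α y z
  rw [Finset.sum_eq_single (q z), hc z, pointProd]
  · by_cases hd : δ z = δX (p z) + δY (q z)
    · rw [if_pos hd, if_pos ⟨rfl, hd⟩]
      ring
    · rw [if_neg hd, if_neg fun h' => hd h'.2, mul_zero]
  · intro y _ hy
    rw [pointProd, if_neg fun h' => hy h'.1.symm, mul_zero]
  · intro hy
    rw [(finite_support β).mem_toFinset, Set.mem_ofPred_eq, not_not] at hy
    rw [hy, zero_mul]

end GrothLib.ExtP17

end
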