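import Groth.Agent.Lib.ExtP17.Main
import Groth.Agent.Lib.C1.BasePush
import Groth.Agent.Lib.PBDeg17.BivPush
import Groth.Agent.Lib.PBDeg17.BivPoints

/-!
# Operational classes act on exterior products through the first factor
-/

set_option autoImplicit false
set_option backward.isDefEq.respectTransparency false
set_option linter.style.haveILetI false
set_option linter.unusedVariables false

universe u

open CategoryTheory CategoryTheory.Limits AlgebraicGeometry IsLocalRing TopologicalSpace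
open GrothLib.CycDiv GrothLib.CycFlat

noncomputable section

namespace GrothLib.ExtP17

open GrothLib GrothLib.C1 GrothLib.PBDeg

variable {K : Type u} [Field K] {X Y P : Scheme.{u}} {p : P ⟶ X} {q : P ⟶ Y} {f : X ⟶ Spec (CommRingCat.of K)}
  {g : Y ⟶ Spec (CommRingCat.of K)} [LocallyOfFiniteType f] [LocallyOfFiniteType g]
  {δX : X → ℤ} {δY : Y → ℤ} {δ : P → ℤ}

variable (hX : Cyc.DeltaCompat f δX (fun _ => 0)) (hY : Cyc.DeltaCompat g δY (fun _ => 0))
  (hsq : IsPullback p q f g) (hP : Cyc.DeltaCompat (p ≫ f) δ (fun _ => 0))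

include hX hY hsq hP in
theorem compat_snd : Cyc.DeltaCompat q δ δY :=
  C1.deltaCompat_of_comp q g (p ≫ f) hsq.w.symm hY hP

include hX hY hsq hP in
/-- The product with the closure of a point, with its projections. -/
theorem exists_kronModel (y₀ : Y) : ∃ (P' : Scheme.{u}) (j : P' ⟶ P) (_ : IsClosedImmersion j) (W : Scheme.{u})
    (ι : W ⟶ Y) (_ : IsClosedImmersion ι) (q' : P' ⟶ W) (η : W) (s : ℕ),
    ι η = y₀ ∧ δY y₀ = (s : ℤ) ∧ Flat (j ≫ p) ∧ (∀ z, z ∈ Set.range j ↔ y₀ ⤳ q z) ∧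
      (∀ w, MaxFib (j ≫ p) w → δ (j w) = δX ((j ≫ p) w) + (s : ℤ)) ∧
      (∀ w, q (j w) = y₀ →
        RingHom.ker (j.stalkMap w).hom = (maximalIdeal (Y.presheaf.stalk (q (j w)))).map (q.stalkMap (j w)).hom) ∧
      IsPullback q' (j ≫ p) (ι ≫ g) f ∧ q' ≫ ι = j ≫ q ∧
      (∀ w, MaxFib (ι ≫ g) w → δY (ι w) = 0 + (s : ℤ)) ∧ (∀ w, w ≠ η → δY (ι w) ≠ (s : ℤ)) ∧
      fibLength (ι ≫ g) η = 1 := by
  classical
  obtain ⟨hXs, hYs, hPs⟩ := setups hX hY hsq hP
  haveI := hXs.1
  haveI := hYs.1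
  haveI := hPs.1
  let I := Scheme.IdealSheafData.vanishingIdeal (⟨closure {y₀}, isClosed_closure⟩ : TopologicalSpace.Closeds Y)
  let W := I.subscheme
  let ι : W ⟶ Y := I.subschemeι
  have hrange : Set.range ι = closure {y₀} := by
    rw [Scheme.IdealSheafData.range_subschemeι]
    exact Scheme.IdealSheafData.coe_support_vanishingIdeal _
  obtain ⟨η, hη⟩ : y₀ ∈ Set.range ι := hrange.symm ▸ subset_closure (Set.mem_singleton y₀)
  have hgen : ∀ w : W, η ⤳ w := fun w => ι.isClosedEmbedding.isInducing.specializes_iff.1 <| by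
    rw [hη, specializes_iff_mem_closure]
    exact hrange ▸ ⟨w, rfl⟩
  haveI : IsIntegral W := Snapper.isIntegral_pt y₀
  have hF : IsField (W.presheaf.stalk η) := by
    have hηg : genericPoint W = η := (genericPoint_spec W).eq
      (Set.eq_univ_of_forall fun w => specializes_iff_mem_closure.1 (hgen w))
    rw [← hηg]
    exact Field.toIsField W.functionField
  have hker : RingHom.ker (ι.stalkMap η).hom = maximalIdeal (Y.presheaf.stalk (ι η)) := by
    letI := hF.toField
    haveI : (RingHom.ker (ι.stalkMap η).hom).IsMaximal :=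
      RingHom.ker_isMaximal_of_surjective _ (ι.stalkMap_surjective η)
    exact IsLocalRing.eq_maximalIdeal inferInstance
  let P' := pullback q ι
  let j : P' ⟶ P := pullback.fst q ι
  let q' : P' ⟶ W := pullback.snd q ι
  have hj : IsPullback j q' q ι := IsPullback.of_hasPullback q ι
  have hsq' : IsPullback (j ≫ p) q' f (ι ≫ g) := hj.paste_horiz hsq
  haveI : IsClosedImmersion j := MorphismProperty.of_isPullback (P := @IsClosedImmersion) hj.flip inferInstance
  have hWg : Cyc.DeltaCompat (ι ≫ g) (fun w => δY (ι w)) (fun _ => 0) :=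
    deltaCompat_comp' ι g (PBDeg.deltaCompat_closed ι δY) hY
  have hPc : Cyc.DeltaCompat ((j ≫ p) ≫ f) (fun w => δ (j w)) (fun _ => 0) := by
    rw [Category.assoc]
    exact deltaCompat_comp' j (p ≫ f) (PBDeg.deltaCompat_closed j δ) hP
  have hc : Cyc.DeltaCompat (j ≫ p) (fun w => δ (j w)) δX :=
    C1.deltaCompat_of_comp (j ≫ p) f ((j ≫ p) ≫ f) rfl hX hPc
  obtain ⟨s, hsη⟩ : ∃ s : ℕ, δY y₀ = s := by
    obtain ⟨m, -, hm⟩ := hY y₀
    exact ⟨m, by simpa using hm⟩
  have hWrel : Cyc.HasRelDim (ι ≫ g) s := (hasRelDim_iff (ι ≫ g) s).2 fun w hw => by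
    obtain rfl : η = w := hw η (Subsingleton.elim (α := PrimeSpectrum K) _ _) (hgen w)
    obtain ⟨m, hm, hmd⟩ := hWg η
    have : m = s := by
      have e : δY (ι η) = δY y₀ := congrArg δY hη
      have : δY (ι η) = (0 : ℤ) + m := hmd
      omega
    exact this ▸ hm
  haveI : Flat (ι ≫ g) := by
    haveI : Subsingleton ↥(Spec (CommRingCat.of K)) := inferInstanceAs (Subsingleton (PrimeSpectrum K))
    infer_instance
  haveI : LocallyOfFiniteType (j ≫ p) :=
    MorphismProperty.of_isPullback (P := @LocallyOfFiniteType) hsq'.flip inferInstance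
  have hlen : fibLength (ι ≫ g) η = 1 := by
    have hbot : (maximalIdeal ((Spec (CommRingCat.of K)).presheaf.stalk ((ι ≫ g) η))).map ((ι ≫ g).stalkMap η).hom =
        maximalIdeal (W.presheaf.stalk η) := by
      letI := hF.toField
      refine le_antisymm (IsLocalRing.le_maximalIdeal fun h => ?_) ?_
      · have hloc : IsLocalHom ((ι ≫ g).stalkMap η).hom := inferInstance
        have hle := ((IsLocalRing.local_hom_TFAE ((ι ≫ g).stalkMap η).hom).out 0 2).1 hloc
        rw [h] at hle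
        exact (maximalIdeal.isMaximal (W.presheaf.stalk η)).ne_top (top_le_iff.1 hle)
      · rw [(IsLocalRing.isField_iff_maximalIdeal_eq.1 hF)]
        exact bot_le
    show Module.length (W.presheaf.stalk η) (W.presheaf.stalk η ⧸ Ideal.map _ _) = 1
    rw [hbot, Module.length_eq_one_iff, isSimpleModule_iff_isCoatom]
    exact (IsLocalRing.maximalIdeal.isMaximal _).out
  refine ⟨P', j, inferInstance, W, ι, inferInstance, q', η, s, hη, hsη,
    MorphismProperty.of_isPullback (P := @Flat) hsq'.flip inferInstance, fun z => ?_,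
    CycFlat.shift_of_hasRelDim (j ≫ p) (hasRelDim_of_isPullback hsq'.flip hWrel) hc, fun w hw => ?_, hsq'.flip,
    hj.w.symm, fun w hw => CycFlat.shift_of_hasRelDim (ι ≫ g) hWrel hWg w hw, fun w hne e => ?_, hlen⟩
  · rw [range_of_isPullback hj, Set.mem_preimage, hrange, specializes_iff_mem_closure]
  · obtain ⟨U, hU, hyU, -⟩ := exists_isAffineOpen_mem_and_subset (x := ι η) (U := ⊤) trivial
    rw [RelReg.ker_stalkMap_of_isPullback hj.flip ⟨U, hU⟩ inferInstance η hyU w (hw.trans hη.symm), hker,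
      CommRingCat.hom_comp, ← Ideal.map_map, map_maximalIdeal_stalkCongr (hw.trans hη.symm).symm]
  · have := (hYs.2.2 y₀ (ι w) (hη ▸ (hgen w).map ι.continuous) fun h => hne
      (ι.isClosedEmbedding.injective (hη.trans h)).symm).1
    omega

/-! ### Pushforward out of a disjoint union -/

theorem map_congr_hom {A B : Scheme.{u}} {a b : A ⟶ B} (e : a = b) [QuasiCompact a] [QuasiCompact b] (δA : A → ℤ)
    (δB : B → ℤ) (α : AlgebraicCycle A ℤ) : AlgebraicCycle.map a δA δB α = AlgebraicCycle.map b δA δB α := by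
  subst e; rfl

theorem map_sigma {J : Type u} {Z : J → Scheme.{u}} {T : Scheme.{u}} (h : (∐ Z :) ⟶ T) [QuasiCompact h]
    {δA : (∐ Z :) → ℤ} {δT : T → ℤ} (α : AlgebraicCycle (∐ Z :) ℤ) (g : ∀ j, Z j ⟶ T) [∀ j, QuasiCompact (g j)]
    (hg : ∀ j, Sigma.ι Z j ≫ h = g j) (αj : ∀ j, AlgebraicCycle (Z j) ℤ)
    (hα : ∀ j z, αj j z = α (Sigma.ι Z j z)) (t : T) (S : Finset J) (hS : ∀ j, t ∈ Set.range (g j) → j ∈ S) :
    AlgebraicCycle.map h δA δT α t =
      ∑ j ∈ S, AlgebraicCycle.map (g j) (fun z => δA (Sigma.ι Z j z)) δT (αj j) t := by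
  classical
  rw [CycPush.map_apply]
  let F : (∐ Z :) → ℤ := fun x => α x * (AlgebraicCycle.mapCoeff h δA δT x : ℤ)
  have hpt : ∀ j z, g j z = h (Sigma.ι Z j z) := fun j z => by rw [← hg, Scheme.Hom.comp_apply]
  have hcoeff : ∀ j z, AlgebraicCycle.mapCoeff (g j) (fun z => δA (Sigma.ι Z j z)) δT z =
      AlgebraicCycle.mapCoeff h δA δT (Sigma.ι Z j z) := fun j z => by
    unfold AlgebraicCycle.mapCoeff
    have e : (g j).residueDegree z = h.residueDegree (Sigma.ι Z j z) := by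
      rw [← BasePush.residueDegree_congr (hg j) z, CycBasic.residueDegree_comp,
        BasePush.residueDegree_eq_one (Sigma.ι Z j) z (CycPush.residueFieldMap_bijective (Sigma.ι Z j) z), mul_one]
    rw [e]
    refine if_congr ?_ rfl rfl
    rw [show (g j).base z = g j z from rfl, hpt]
  have hfin := CycPush.finite_map_support h δA δT α t
  let fib : J → Set (∐ Z :) := fun j => Sigma.ι Z j '' ((g j) ⁻¹' {t}) ∩ Function.support F
  have hset : h ⁻¹' {t} ∩ Function.support F = ⋃ j ∈ S, fib j := by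
    ext x
    constructor
    · rintro ⟨hx, hF⟩
      obtain ⟨⟨j, z⟩, rfl⟩ := (sigmaMk Z).surjective x
      rw [sigmaMk_mk] at hx hF ⊢
      have hz : g j z = t := (hpt j z).trans hx
      exact Set.mem_iUnion₂.2 ⟨j, hS j ⟨z, hz⟩, ⟨z, hz, rfl⟩, hF⟩
    · intro hx
      obtain ⟨j, -, ⟨z, hz, rfl⟩, hF⟩ := Set.mem_iUnion₂.1 hx
      exact ⟨(hpt j z).symm.trans hz, hF⟩
  rw [← finsum_mem_inter_support, hset]
  rw [show (⋃ j ∈ S, fib j) = ⋃ j ∈ (S : Set J), fib j from rfl, finsum_mem_biUnion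
    (fun i _ j _ hij => Set.disjoint_left.2 fun x hi hj => ?_) S.finite_toSet fun j hj => hfin.subset (hset ▸
      Set.subset_biUnion_of_mem (u := fib) hj), finsum_mem_coe_finset]
  · refine Finset.sum_congr rfl fun j _ => ?_
    rw [CycPush.map_apply, finsum_mem_inter_support, finsum_mem_image (Sigma.ι Z j).isOpenEmbedding.injective.injOn]
    exact finsum_mem_congr rfl fun z _ => by
      show α _ * _ = _
      rw [hα, hcoeff]
  · obtain ⟨⟨z, -, rfl⟩, -⟩ := hi
    obtain ⟨⟨z', -, e⟩, -⟩ := hj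
    exact Set.disjoint_left.1 (Opens.coe_disjoint.2 (disjoint_opensRange_sigmaι Z i j hij)) ⟨z, rfl⟩ ⟨z', e⟩

/-! ### Operations on products with effective cycles -/

/-- The product of a coefficient function and a cycle. -/
def prodFun (p : P ⟶ X) (q : P ⟶ Y) (δX : X → ℤ) (δY : Y → ℤ) (δ : P → ℤ) (a : X → ℤ) (v : Y → ℤ) (z : P) : ℤ :=
  v (q z) * pointProd p q δX δY δ a (q z) z

theorem pointProd_ne {a : X → ℤ} {y₀ : Y} {z : P} (h : q z ≠ y₀) : pointProd p q δX δY δ a y₀ z = 0 :=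
  if_neg fun h' => h h'.1

include hX hY hsq hP in
/-- Operations commute with products by effective cycles, and the degree formula for products. -/
theorem exists_prodData [IsProper f] {c : ℤ} (C : Bivar.OpCl c X δX) (hp : Cyc.DeltaCompat p δ δX)
    (hplft : LocallyOfFiniteType p) {a b m : ℤ} (hm : a + b = m) {u β : AlgebraicCycle X ℤ}
    (hu : u ∈ Cyc.Zk X δX a) (hβ : β ∈ Cyc.Zk X δX (a - c))
    (hcap : C.cap a (ChowOps.cl u hu) = ChowOps.cl β hβ)
    {v : AlgebraicCycle Y ℤ} (hv : v ∈ Cyc.Zk Y δY b) (hv0 : ∀ y, 0 ≤ v y) :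
    ∃ (U B : AlgebraicCycle P ℤ) (hU : U ∈ Cyc.Zk P δ m) (hB : B ∈ Cyc.Zk P δ (m - c)),
      ⇑U = prodFun p q δX δY δ ⇑u ⇑v ∧
      C.op ⟨P, p, hplft, δ, hp⟩ m (ChowOps.cl U hU) = ChowOps.cl B hB ∧
      ∀ [QuasiCompact q] (y : Y), AlgebraicCycle.map q δ δY B y = ChowOps.deg f δX β * v y := by
  classical
  obtain ⟨hXs, hYs, hPs⟩ := setups hX hY hsq hP
  haveI := hXs.1
  haveI := hYs.1
  haveI := hPs.1
  haveI := hplft
  rcases lt_or_ge b 0 with hb | hb
  · have hv' : ∀ y, v y = 0 := fun y => by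
      by_contra h
      obtain ⟨n, -, hn⟩ := hY y
      have := zk_supp hv y h
      simp at hn
      omega
    refine ⟨0, 0, (ChowOps.zk P δ _).zero_mem, (ChowOps.zk P δ _).zero_mem, ?_, ?_, fun y => ?_⟩
    · funext z
      simp [prodFun, hv']
    · exact ((congrArg (C.op ⟨P, p, hplft, δ, hp⟩ m) Bivar.cl_zero).trans (map_zero _)).trans Bivar.cl_zero.symm
    · rw [Bivar.cycMap_zero, hv', mul_zero]
      rfl
  lift b to ℕ using hb
  let J := Σ ξ : {y : Y // v y ≠ 0}, ULift.{u} (Fin (v ξ.1).toNat)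
  choose Z i hi W ι hι q' η s hη hs hflat hr hsh hker hpb hw hshW hW hlen using
    fun j : J => exists_kronModel hX hY hsq hP j.1.1
  have hsb : ∀ j : J, (s j : ℤ) = b := fun j => (hs j).symm.trans (zk_supp hv _ j.1.2)
  haveI : ∀ j, IsFinite (i j) := fun j => by haveI := hi j; infer_instance
  have hJfin : ∀ U : Set Y, {y | y ∈ U ∧ v y ≠ 0}.Finite → {j : J | j.1.1 ∈ U}.Finite := fun U hU => by
    have h1 : {ξ : {y : Y // v y ≠ 0} | ξ.1 ∈ U}.Finite :=
      (hU.preimage Subtype.val_injective.injOn).subset fun ξ hξ => ⟨hξ, ξ.2⟩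
    refine (h1.biUnion (t := fun ξ => Set.range fun k => (⟨ξ, k⟩ : J)) fun ξ _ => Set.finite_range _).subset ?_
    rintro ⟨ξ, k⟩ hj
    exact Set.mem_biUnion (show ξ ∈ _ from hj) ⟨k, rfl⟩
  let jT : (∐ Z :) ⟶ P := Sigma.desc i
  haveI : IsFinite (Sigma.desc i) := isFinite_sigmaDesc i fun z => by
    obtain ⟨U, hyU, hfin⟩ := LF.of_cycle v (q z)
    refine ⟨q ⁻¹ᵁ U, hyU, (hJfin _ hfin).subset fun j hj => ?_⟩
    obtain ⟨z', hz', hz'U⟩ := hj
    exact ((hr j z').1 hz').mem_open U.2 hz'U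
  haveI : IsProper jT := inferInstanceAs (IsProper (Sigma.desc i))
  let h : (∐ Z :) ⟶ X := jT ≫ p
  have hι' : ∀ j, Sigma.ι Z j ≫ h = i j ≫ p := fun j => by show Sigma.ι Z j ≫ Sigma.desc i ≫ p = _; rw [Sigma.ι_desc_assoc]
  haveI : SurjectiveOnStalks jT := IsZariskiLocalAtSource.sigmaDesc (P := @SurjectiveOnStalks) fun j => by
    haveI := hi j; infer_instance
  let δT : (∐ Z :) → ℤ := fun x => δ (jT x)
  have hjT : Cyc.DeltaCompat jT δT δ := CycPush.deltaCompat_comp jT δ
  have hh : Cyc.DeltaCompat h δT δX := deltaCompat_comp' jT p hjT hp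
  have hjpt : ∀ j z, jT (Sigma.ι Z j z) = i j z := fun j z => by
    rw [← Scheme.Hom.comp_apply, Sigma.ι_desc]
  haveI : IsLocallyNoetherian (∐ Z :) := LocallyOfFiniteType.isLocallyNoetherian jT
  have hT : Cyc.IsSetup (∐ Z :) δT := isSetup_of_lft hPs jT hjT
  haveI : LocallyOfFiniteType h := inferInstanceAs (LocallyOfFiniteType (jT ≫ p))
  haveI : Flat h := IsZariskiLocalAtSource.of_openCover (P := @Flat) (sigmaOpenCover Z) fun j => by
    show Flat (Sigma.ι Z j ≫ h)
    rw [hι']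
    exact hflat j
  have hshT : ∀ x, MaxFib h x → δT x = δX (h x) + ((b : ℕ) : ℤ) := fun x hx => by
    obtain ⟨⟨j, z⟩, rfl⟩ := (sigmaMk Z).surjective x
    rw [sigmaMk_mk] at hx ⊢
    have hpt : ∀ z', h (Sigma.ι Z j z') = (i j ≫ p) z' := fun z' => by rw [← Scheme.Hom.comp_apply, hι']
    have := hsh j z fun y hy hyz => (Sigma.ι Z j).isOpenEmbedding.injective
      (hx _ (by rw [hpt, hpt, hy]) (hyz.map (Sigma.ι Z j).continuous))
    show δ (jT _) = _
    rw [hjpt, hpt, this, hsb]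
  have hrel : Cyc.HasRelDim h b := (hasRelDim_iff h b).2 fun x hx => by
    obtain ⟨n, hn, hnd⟩ := hh x
    have := hshT x hx
    obtain rfl : n = b := by omega
    exact hn
  -- the test schemes
  let sP : Bivar.OSq X δX := ⟨P, p, hplft, δ, hp⟩
  let sT : Bivar.OSq X δX := ⟨(∐ Z :), h, inferInstance, δT, hh⟩
  let sX : Bivar.OSq X δX := Bivar.OSq.self X δX
  let pull : AlgebraicCycle X ℤ → AlgebraicCycle (∐ Z :) ℤ := fun w =>
    toCycle _ (lf_pullFun h hT.2.2 hshT (LF.of_cycle w))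
  have hpull : ∀ w, ⇑(pull w) = Cyc.pullFun h δT δX ((b : ℕ) : ℤ) ⇑w := fun w => rfl
  have hpullk : ∀ {k : ℤ} (w : AlgebraicCycle X ℤ), w ∈ Cyc.Zk X δX k → pull w ∈ Cyc.Zk (∐ Z :) δT (k + b) :=
    fun w hw => Bivar.pullFun_mem_Zk h δT δX _ _ hw _ (hpull w)
  subst hm
  obtain ⟨β₀, hβ₀, e₀, hpl⟩ := C.pull sX sT h b hrel (Category.comp_id _) a u hu
  obtain ⟨B₀, hB₀, hB₀e, eT⟩ := hpl (pull u) (hpull u) (hpullk u hu)
  obtain ⟨B₁, hB₁, e₁, e₂⟩ := C.push sP sT jT rfl (a + b) (pull u) (hpullk u hu)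
  have hzk : a - c + (b : ℤ) = a + b - c := by ring
  have hBk : pull β ∈ Cyc.Zk (∐ Z :) δT (a + b - c) := hzk ▸ hpullk β hβ
  have hββ : Cyc.RatEquiv δX (a - c) β₀ β := PBDeg.ratEquiv_of_cl_eq' hXs.2.2 (e₀.symm.trans hcap)
  have hd0 : Cyc.RatEquivZero δT (a + b - c) (B₀ - pull β) := hzk ▸
    CycDiv.ratEquivZero_pullFun h hT.2.2 hXs.2.2 hshT _ _ hββ _ (by
      rw [Function.locallyFinsuppWithin.coe_sub, hB₀e, hpull]
      funext x
      simp only [Pi.sub_apply, Function.locallyFinsuppWithin.coe_sub, Cyc.pullFun]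
      split_ifs <;> ring)
  obtain ⟨μ, hμ⟩ := exists_mapHom jT hT hPs hjT (a + b - c)
  have hcl : ChowOps.cl B₀ hB₀ = ChowOps.cl (pull β) hBk := cl_eq_of_ratEquiv _ _ hd0
  let Uc := AlgebraicCycle.map jT δT δ (pull u)
  let Bc := AlgebraicCycle.map jT δT δ (pull β)
  have hUk : Uc ∈ Cyc.Zk P δ (a + b) := Bivar.cycMap_mem_Zk jT δT δ _ (hpullk u hu)
  have hBck : Bc ∈ Cyc.Zk P δ (a + b - c) := Bivar.cycMap_mem_Zk jT δT δ _ hBk
  have hopeq : C.op sP (a + b) (ChowOps.cl Uc hUk) = ChowOps.cl Bc hBck := by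
    refine e₂.trans ?_
    rw [← hμ B₁ hB₁, ← e₁, eT, hcl, hμ _ hBk]
  -- component-wise computation
  have hres : ∀ (w : AlgebraicCycle X ℤ) j z, pull w (Sigma.ι Z j z) =
      Cyc.pullFun (i j ≫ p) (fun z => δ (i j z)) δX (s j : ℤ) ⇑w z := fun w j z => by
    rw [hpull, pullFun_apply, pullFun_apply]
    have hpt : h (Sigma.ι Z j z) = (i j ≫ p) z := by rw [← Scheme.Hom.comp_apply, hι']
    have hl : fibLength h (Sigma.ι Z j z) = fibLength (i j ≫ p) z := by
      rw [← fibLength_congr (hι' j) z, fibLength_comp (Sigma.ι Z j) h, PBDeg.fibLength_openImm (Sigma.ι Z j) z, mul_one]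
    rw [hl, hpt, hsb]
    show (if δ (jT _) = _ then _ else _) = _
    rw [hjpt]
  have hSfin : ∀ y : Y, ({j : J | j.1.1 ⤳ y}).Finite := fun y => by
    obtain ⟨U, hyU, hfin⟩ := LF.of_cycle v y
    exact (hJfin _ hfin).subset fun j hj => (show j.1.1 ⤳ y from hj).mem_open U.2 hyU
  have hcount : ∀ y : Y, ((hSfin y).toFinset.filter fun j => j.1.1 = y).card = (v y).toNat := fun y => by
    by_cases hy : v y = 0
    · rw [hy, Int.toNat_zero, Finset.card_eq_zero, Finset.filter_eq_empty_iff]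
      intro j _ hj
      exact j.1.2 (hj ▸ hy)
    · have hmap : ((hSfin y).toFinset.filter fun j => j.1.1 = y) =
          (Finset.univ : Finset (ULift.{u} (Fin (v y).toNat))).map
            ⟨fun k => (⟨⟨y, hy⟩, k⟩ : J), fun k k' hk => eq_of_heq (Sigma.mk.inj_iff.1 hk).2⟩ := by
        ext j
        simp only [Finset.mem_filter, Set.Finite.mem_toFinset, Finset.mem_map, Finset.mem_univ, true_and]
        constructor
        · rintro ⟨-, hj⟩
          obtain ⟨⟨ξ, hξ⟩, k⟩ := j
          obtain rfl : ξ = y := hj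
          exact ⟨k, rfl⟩
        · rintro ⟨k, rfl⟩
          exact ⟨specializes_rfl, rfl⟩
      rw [hmap, Finset.card_map, Finset.card_univ, Fintype.card_ulift, Fintype.card_fin]
  have hδi : ∀ j, (fun z => δT (Sigma.ι Z j z)) = fun z => δ (i j z) := fun j => funext fun z => congrArg δ (hjpt j z)
  -- the components
  let pc : ∀ (w : AlgebraicCycle X ℤ) (j : J), AlgebraicCycle (Z j) ℤ := fun w j =>
    haveI := hi j
    haveI : IsLocallyNoetherian (Z j) := LocallyOfFiniteType.isLocallyNoetherian (i j)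
    toCycle _ (lf_pullFun (i j ≫ p) (CycPush.isDimFun_closedImmersion (i j) hPs.2.2) (hsh j) (LF.of_cycle w))
  have hUfun : ⇑Uc = prodFun p q δX δY δ ⇑u ⇑v := by
    funext z
    haveI : ∀ j, QuasiCompact (i j) := fun j => inferInstance
    show AlgebraicCycle.map jT δT δ (pull u) z = _
    rw [map_sigma jT (pull u) i (fun j => Sigma.ι_desc i j) (pc u) (fun j z => (hres u j z).symm) z
      (hSfin (q z)).toFinset fun j hj => (hSfin (q z)).mem_toFinset.2 ((hr j z).1 hj),
      ← Finset.sum_filter_of_ne (p := fun j => j.1.1 = q z)]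
    · rw [Finset.sum_eq_card_nsmul (b := pointProd p q δX δY δ (⇑u) (q z) z), hcount, nsmul_eq_mul,
        Int.natCast_toNat_eq_self.2 (hv0 _), prodFun]
      intro j hj
      obtain ⟨-, hj⟩ := Finset.mem_filter.1 hj
      haveI := hi j
      obtain ⟨z', rfl⟩ := (hr j z).2 (hj ▸ specializes_rfl)
      rw [CycPush.map_apply_of_preimmersion (i j) δ (fun z => congrArg δ (hjpt j z)) (pc u j) z', ← hj]
      exact (pointProd_model hX hY hsq hP (hs j) (hr j) (hker j) u z').symm
    · intro j _ hne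
      haveI := hi j
      by_contra h'
      apply hne
      by_cases hz : z ∈ Set.range (i j)
      · obtain ⟨z', rfl⟩ := hz
        rw [CycPush.map_apply_of_preimmersion (i j) δ (fun z => congrArg δ (hjpt j z)) (pc u j) z']
        exact (pointProd_model hX hY hsq hP (hs j) (hr j) (hker j) u z').symm.trans (pointProd_ne (Ne.symm h'))
      · exact CycPush.map_apply_of_notMem_range (i j) δ _ _ hz
  refine ⟨Uc, Bc, hUk, hBck, hUfun, hopeq, fun {_} y => ?_⟩
  haveI : IsProper q := MorphismProperty.of_isPullback (P := @IsProper) hsq inferInstance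
  have hq : Cyc.DeltaCompat q δ δY := compat_snd hX hY hsq hP
  rw [CycBasic.map_map jT q δT δ δY hjT hq,
    map_sigma (jT ≫ q) (pull β) (fun j => i j ≫ q) (fun j => by rw [Sigma.ι_desc_assoc]) (pc β)
      (fun j z => (hres β j z).symm) y (hSfin y).toFinset fun j hj => (hSfin y).mem_toFinset.2 (by
        obtain ⟨z', rfl⟩ := hj
        rw [Scheme.Hom.comp_apply]
        exact (hr j _).1 ⟨z', rfl⟩)]
  have key : ∀ j : J, AlgebraicCycle.map (i j ≫ q) (fun z => δT (Sigma.ι Z j z)) δY (pc β j) y =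
      if j.1.1 = y then ChowOps.deg f δX β else 0 := by
    intro j
    haveI := hi j
    haveI := hι j
    haveI : IsProper (q' j) := MorphismProperty.of_isPullback (P := @IsProper) (hpb j).flip inferInstance
    have hW' : Cyc.IsDimFun (W j) (fun w => δY (ι j w)) := CycPush.isDimFun_closedImmersion (ι j) hYs.2.2
    have hq' : Cyc.DeltaCompat (q' j) (fun z => δ (i j z)) (fun w => δY (ι j w)) :=
      C1.deltaCompat_of_comp (q' j) (ι j) (i j ≫ q) (hw j) (PBDeg.deltaCompat_closed (ι j) δY)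
        (deltaCompat_comp' (i j) q (PBDeg.deltaCompat_closed (i j) δ) hq)
    have hbc := C1.BasePush.pullFun_map (hpb j) hW' hX hq' (hshW j) β (pc β j) rfl
    rw [hδi, ← map_congr_hom (hw j), ← CycBasic.map_map (q' j) (ι j) _ (fun w => δY (ι j w)) δY hq'
      (PBDeg.deltaCompat_closed (ι j) δY)]
    by_cases hy : y ∈ Set.range (ι j)
    · obtain ⟨w, rfl⟩ := hy
      rw [CycPush.map_apply_of_preimmersion (ι j) δY (fun _ => rfl), ← hbc, pullFun_apply]
      by_cases hwη : w = η j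
      · subst hwη
        rw [if_pos (show δY (ι j (η j)) = 0 + (s j : ℤ) by rw [hη, hs, zero_add]), if_pos (hη j).symm, hlen,
          ENat.toNat_one, Nat.cast_one, mul_one]
        exact congrArg _ (Subsingleton.elim (α := PrimeSpectrum K) _ _)
      · rw [if_neg (by rw [zero_add]; exact hW j w hwη),
          if_neg fun e => hwη ((ι j).isClosedEmbedding.injective (e.symm.trans (hη j).symm))]
    · rw [CycPush.map_apply_of_notMem_range (ι j) δY _ _ hy, if_neg fun e => hy ⟨η j, (hη j).trans e⟩]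
  rw [Finset.sum_congr rfl fun j _ => key j, ← Finset.sum_filter, Finset.sum_const, hcount, nsmul_eq_mul,
    Int.natCast_toNat_eq_self.2 (hv0 _), mul_comm]

end GrothLib.ExtP17

end
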