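import Groth.Agent.Lib.ExtP17.KronPoint
import Mathlib.Algebra.DirectSum.Module
import Mathlib.LinearAlgebra.TensorProduct.Basic

/-!
# Operational classes from functionals, under the Künneth property
-/

set_option autoImplicit false
set_option backward.isDefEq.respectTransparency false
set_option linter.style.haveILetI false
set_option linter.unusedVariables false
set_option maxHeartbeats 800000
set_option synthInstance.maxHeartbeats 200000

universe u

open CategoryTheory CategoryTheory.Limits AlgebraicGeometry IsLocalRing TopologicalSpace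
open GrothLib.CycFlat
open scoped TensorProduct DirectSum

noncomputable section

namespace GrothLib.KronOp

open GrothLib GrothLib.C1 GrothLib.PBDeg

variable {K : Type u} [Field K] {X : Scheme.{u}} {pX : X ⟶ Spec (CommRingCat.of K)} [IsProper pX] {δX : X → ℤ}
  (hX : Cyc.IsSetup X δX) (hδX : Cyc.DeltaCompat pX δX (fun _ => 0))

include hX hδX in
theorem finite_supp (u : AlgebraicCycle X ℤ) : {x | u x ≠ 0}.Finite := by
  haveI : CompactSpace X := ⟨by simpa using (pX.isSpectralMap.2 isOpen_univ isCompact_univ : IsCompact (pX ⁻¹' Set.univ))⟩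
  exact ExtP17.finite_support u

/-- The Künneth isomorphisms of a test scheme. -/
structure KData (T : KTest pX δX) where
  κ : ∀ a m : ℤ, ChowOps.CH X δX a →ₗ[ℤ] ChowOps.CH T.Y T.δY (m - a) →ₗ[ℤ] ChowOps.CH T.P T.δP m
  spec : ∀ (a m : ℤ) (α : AlgebraicCycle X ℤ) (hα : α ∈ Cyc.Zk X δX a)
    (β : AlgebraicCycle T.Y ℤ) (hβ : β ∈ Cyc.Zk T.Y T.δY (m - a))
    (ζ : AlgebraicCycle T.P ℤ) (hζ : ζ ∈ Cyc.Zk T.P T.δP m),
    (∀ t : T.P, ζ t = if T.δP t = δX (T.q₁ t) + T.δY (T.q₂ t) then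
      α (T.q₁ t) * β (T.q₂ t) *
        ((Module.length (T.P.presheaf.stalk t) (T.P.presheaf.stalk t ⧸
          (Ideal.map (T.q₁.stalkMap t).hom (IsLocalRing.maximalIdeal (X.presheaf.stalk (T.q₁ t))) ⊔
            Ideal.map (T.q₂.stalkMap t).hom (IsLocalRing.maximalIdeal (T.Y.presheaf.stalk (T.q₂ t)))))).toNat : ℤ)
      else 0) →
    κ a m (ChowOps.cl α hα) (ChowOps.cl β hβ) = ChowOps.cl ζ hζ
  bij : ∀ m : ℤ, Function.Bijective
    (DirectSum.toModule ℤ ℤ (ChowOps.CH T.P T.δP m) (fun a : ℤ => TensorProduct.lift (κ a m)))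

variable {T : KTest pX δX} (D : KData T)

/-- The sum of the Künneth maps. -/
def KData.e (m : ℤ) : (⨁ a : ℤ, ChowOps.CH X δX a ⊗[ℤ] ChowOps.CH T.Y T.δY (m - a)) ≃ₗ[ℤ] ChowOps.CH T.P T.δP m :=
  LinearEquiv.ofBijective _ (D.bij m)

theorem KData.e_lof (m a : ℤ) (u : ChowOps.CH X δX a) (v : ChowOps.CH T.Y T.δY (m - a)) :
    D.e m (DirectSum.lof ℤ ℤ (fun a => ChowOps.CH X δX a ⊗[ℤ] ChowOps.CH T.Y T.δY (m - a)) a (u ⊗ₜ v)) =
      D.κ a m u v := by
  rw [KData.e, LinearEquiv.ofBijective_apply, DirectSum.toModule_lof, TensorProduct.lift.tmul]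

include hX hδX in
theorem kappa_eq_sum (a m : ℤ) (u : AlgebraicCycle X ℤ) (hu : u ∈ Cyc.Zk X δX a)
    (w : ChowOps.CH T.Y T.δY (m - a)) :
    D.κ a m (ChowOps.cl u hu) w = ∑ x ∈ (finite_supp hX hδX u).toFinset, u x • E hX hδX T x (m - a) m w := by
  classical
  obtain ⟨v, hv, rfl⟩ := Bivar.exists_rep w
  have hx : ∀ x ∈ (finite_supp hX hδX u).toFinset, m - a + δX x = m := fun x hx => by
    rw [zk_supp hu x ((finite_supp hX hδX u).mem_toFinset.1 hx)]
    ring
  choose U hU hE hUe using fun (x : (finite_supp hX hδX u).toFinset) => E_cl hX hδX T x.1 (hx x.1 x.2) v hv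
  let ζ : ↥(ChowOps.zk T.P T.δP m) := ∑ x ∈ (finite_supp hX hδX u).toFinset.attach, u x.1 • ⟨U x, hU x⟩
  refine (D.spec a m u hu v hv ζ.1 ζ.2 fun t => ?_).trans ?_
  · show (ζ : AlgebraicCycle T.P ℤ) t = _
    rw [AddSubmonoidClass.coe_finsetSum, Function.locallyFinsuppWithin.coe_sum, Finset.sum_apply]
    have h1 : ∀ x : (finite_supp hX hδX u).toFinset,
        ((u x.1 • (⟨U x, hU x⟩ : ↥(ChowOps.zk T.P T.δP m)) : ↥(ChowOps.zk T.P T.δP m)) : AlgebraicCycle T.P ℤ) t =
          u x.1 * ExtP17.pointProd T.q₂ T.q₁ T.δY δX T.δP (⇑v) x.1 t := fun x => by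
      rw [← hUe x t]
      rfl
    rw [Finset.sum_congr rfl fun x _ => h1 x,
      Finset.sum_attach _ (fun x => u x * ExtP17.pointProd T.q₂ T.q₁ T.δY δX T.δP (⇑v) x t), Finset.sum_eq_single (T.q₁ t)]
    · rw [ExtP17.pointProd]
      by_cases h : T.δP t = δX (T.q₁ t) + T.δY (T.q₂ t)
      · rw [if_pos h, if_pos ⟨rfl, by rw [h]; ring⟩, sup_comm]
        ring
      · rw [if_neg h, if_neg fun h' => h (by rw [h'.2]; ring), mul_zero]
    · intro x _ hne
      rw [ExtP17.pointProd_ne hne.symm, mul_zero]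
    · intro h
      rw [Set.Finite.mem_toFinset, Set.mem_ofPred_eq, not_not] at h
      rw [h, zero_mul]
  · show ChowOps.clHom T.P T.δP m ζ = _
    rw [map_sum, ← Finset.sum_attach (finite_supp hX hδX u).toFinset (fun x => u x • E hX hδX T x (m - a) m _)]
    refine Finset.sum_congr rfl fun x _ => ?_
    rw [map_zsmul, hE x]
    rfl

variable {p : ℤ} (φ : ChowOps.CH X δX p →+ ℤ)

/-- The contraction on a component. -/
def bil (T : KTest pX δX) {a m : ℤ} (h : a = p) :
    ChowOps.CH X δX a →ₗ[ℤ] ChowOps.CH T.Y T.δY (m - a) →ₗ[ℤ] ChowOps.CH T.Y T.δY (m - p) :=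
  LinearMap.mk₂ ℤ
    (fun u v => φ (Bivar.chCast X δX h u) • Bivar.chCast T.Y T.δY (show m - a = m - p by rw [h]) v)
    (fun u u' v => by rw [map_add, map_add]; exact add_zsmul _ _ _)
    (fun c u v => by rw [map_zsmul, map_zsmul, smul_eq_mul]; exact (mul_zsmul _ _ _).trans rfl)
    (fun u v v' => by rw [map_add]; exact zsmul_add _ _ _)
    (fun c u v => by rw [map_zsmul]; exact zsmul_comm _ _ _)

open Classical in
/-- Contraction with the functional. -/
def contr (T : KTest pX δX) (m : ℤ) :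
    (⨁ a : ℤ, ChowOps.CH X δX a ⊗[ℤ] ChowOps.CH T.Y T.δY (m - a)) →ₗ[ℤ] ChowOps.CH T.Y T.δY (m - p) :=
  DirectSum.toModule ℤ ℤ _ fun a => if h : a = p then TensorProduct.lift (bil φ T h) else 0

theorem contr_lof_self (m : ℤ) (u : ChowOps.CH X δX p) (v : ChowOps.CH T.Y T.δY (m - p)) :
    contr φ T m (DirectSum.lof ℤ ℤ (fun a => ChowOps.CH X δX a ⊗[ℤ] ChowOps.CH T.Y T.δY (m - a)) p (u ⊗ₜ v)) =
      φ u • v := by
  rw [contr, DirectSum.toModule_lof, dif_pos rfl, TensorProduct.lift.tmul]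
  rfl

theorem contr_lof_ne {a : ℤ} (h : a ≠ p) (m : ℤ) (u : ChowOps.CH X δX a) (v : ChowOps.CH T.Y T.δY (m - a)) :
    contr φ T m (DirectSum.lof ℤ ℤ (fun a => ChowOps.CH X δX a ⊗[ℤ] ChowOps.CH T.Y T.δY (m - a)) a (u ⊗ₜ v)) = 0 := by
  rw [contr, DirectSum.toModule_lof, dif_neg h, LinearMap.zero_apply]

/-- The operation attached to the functional on a test scheme with a graph. -/
def opHom (γ : T.Y ⟶ T.P) [IsProper γ] (hγ : Cyc.DeltaCompat γ T.δY T.δP) (m : ℤ) :
    ChowOps.CH T.Y T.δY m →+ ChowOps.CH T.Y T.δY (m - p) :=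
  (contr φ T m).toAddMonoidHom.comp
    ((D.e m).symm.toLinearMap.toAddMonoidHom.comp (pushH γ (T.sY hX) (T.sP hX) hγ m))

/-- Natural operations commute with the contraction. -/
theorem op_natural {S T : KTest pX δX} (DS : KData S) (DT : KData T) (γS : S.Y ⟶ S.P) [IsProper γS]
    (γT : T.Y ⟶ T.P) [IsProper γT] (hγS : Cyc.DeltaCompat γS S.δY S.δP) (hγT : Cyc.DeltaCompat γT T.δY T.δP) (e : ℤ)
    (Φ : ∀ k l : ℤ, ChowOps.CH S.Y S.δY k →+ ChowOps.CH T.Y T.δY l)
    (ΨP : ∀ k l : ℤ, ChowOps.CH S.P S.δP k →+ ChowOps.CH T.P T.δP l)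
    (hgraph : ∀ k l : ℤ, k + e = l → ∀ z, ΨP k l (pushH γS (S.sY hX) (S.sP hX) hγS k z) =
      pushH γT (T.sY hX) (T.sP hX) hγT l (Φ k l z))
    (hpoint : ∀ (x : X) (k l k' l' : ℤ), k + δX x = k' → l + δX x = l' → k + e = l → ∀ z,
      ΨP k' l' (E hX hδX S x k k' z) = E hX hδX T x l l' (Φ k l z))
    (m n : ℤ) (hn : m + e = n) (z : ChowOps.CH S.Y S.δY m) :
    opHom hX DT φ γT hγT n (Φ m n z) = Φ (m - p) (n - p) (opHom hX DS φ γS hγS m z) := by
  classical
  have hgen : ∀ w : (⨁ a : ℤ, ChowOps.CH X δX a ⊗[ℤ] ChowOps.CH S.Y S.δY (m - a)),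
      ∃ y, ΨP m n (DS.e m w) = DT.e n y ∧ Φ (m - p) (n - p) (contr φ S m w) = contr φ T n y := by
    intro w
    induction w using DirectSum.induction_on with
    | zero => exact ⟨0, by rw [map_zero, map_zero, map_zero], by rw [map_zero, map_zero, map_zero]⟩
    | add x y hx hy =>
      obtain ⟨x', hx1, hx2⟩ := hx
      obtain ⟨y', hy1, hy2⟩ := hy
      exact ⟨x' + y', by rw [map_add, map_add, map_add, hx1, hy1], by rw [map_add, map_add, map_add, hx2, hy2]⟩
    | of a t =>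
      induction t using TensorProduct.induction_on with
      | zero => exact ⟨0, by rw [map_zero, map_zero, map_zero, map_zero], by rw [map_zero, map_zero, map_zero, map_zero]⟩
      | add x y hx hy =>
        obtain ⟨x', hx1, hx2⟩ := hx
        obtain ⟨y', hy1, hy2⟩ := hy
        exact ⟨x' + y', by rw [map_add, map_add, map_add, map_add, hx1, hy1],
          by rw [map_add, map_add, map_add, map_add, hx2, hy2]⟩
      | tmul u v =>
        refine ⟨DirectSum.lof ℤ ℤ (fun a => ChowOps.CH X δX a ⊗[ℤ] ChowOps.CH T.Y T.δY (n - a)) a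
          (u ⊗ₜ Φ (m - a) (n - a) v), ?_, ?_⟩
        · rw [← DirectSum.lof_eq_of ℤ, DS.e_lof, DT.e_lof]
          obtain ⟨u, hu, rfl⟩ := Bivar.exists_rep u
          rw [kappa_eq_sum hX hδX DS a m u hu, kappa_eq_sum hX hδX DT a n u hu, map_sum]
          refine Finset.sum_congr rfl fun x hx => ?_
          have hxa := zk_supp hu x ((finite_supp hX hδX u).mem_toFinset.1 hx)
          rw [map_zsmul, hpoint x (m - a) (n - a) m n (by omega) (by omega) (by omega)]
        · rw [← DirectSum.lof_eq_of ℤ]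
          by_cases h : a = p
          · subst h
            rw [contr_lof_self, contr_lof_self, map_zsmul]
          · rw [contr_lof_ne φ h, contr_lof_ne φ h, map_zero]
  obtain ⟨y, h1, h2⟩ := hgen ((DS.e m).symm (pushH γS (S.sY hX) (S.sP hX) hγS m z))
  rw [LinearEquiv.apply_symm_apply, hgraph m n hn] at h1
  show contr φ T n ((DT.e n).symm (pushH γT (T.sY hX) (T.sP hX) hγT n (Φ m n z))) = _
  rw [h1, LinearEquiv.symm_apply_apply]
  exact h2.symm

/-! ### Test schemes -/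

/-- The test data of a test scheme. -/
def mkT (s : Bivar.OSq X δX) : KTest pX δX :=
  haveI := s.lft
  haveI : IsLocallyNoetherian X := LocallyOfFiniteType.isLocallyNoetherian pX
  { Y := s.Y
    P := pullback pX (s.g ≫ pX)
    pY := s.g ≫ pX
    lft := inferInstance
    q₁ := pullback.fst pX (s.g ≫ pX)
    q₂ := pullback.snd pX (s.g ≫ pX)
    hsq := IsPullback.of_hasPullback pX (s.g ≫ pX)
    δY := s.δ
    δP := (CycP1.exists_deltaCompat (pullback.fst pX (s.g ≫ pX)) δX).choose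
    hY := deltaCompat_comp' s.g pX s.compat hδX
    hq₁ := (CycP1.exists_deltaCompat (pullback.fst pX (s.g ≫ pX)) δX).choose_spec }

/-- The graph of a test scheme. -/
def gam (s : Bivar.OSq X δX) : (mkT hδX s).Y ⟶ (mkT hδX s).P :=
  pullback.lift (f := pX) (g := s.g ≫ pX) s.g (𝟙 s.Y) (Category.id_comp _).symm

theorem gam_fst (s : Bivar.OSq X δX) : gam hδX s ≫ (mkT hδX s).q₁ = s.g := pullback.lift_fst _ _ _

theorem gam_snd (s : Bivar.OSq X δX) : gam hδX s ≫ (mkT hδX s).q₂ = 𝟙 s.Y := pullback.lift_snd _ _ _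

instance (s : Bivar.OSq X δX) : IsClosedImmersion (gam hδX s) := by
  haveI : IsClosedImmersion (gam hδX s ≫ (mkT hδX s).q₂) := by rw [gam_snd]; exact inferInstanceAs (IsClosedImmersion (𝟙 _))
  exact IsClosedImmersion.of_comp (gam hδX s) (mkT hδX s).q₂

theorem gam_compat (s : Bivar.OSq X δX) : Cyc.DeltaCompat (gam hδX s) (mkT hδX s).δY (mkT hδX s).δP :=
  C1.deltaCompat_of_comp _ (mkT hδX s).q₁ s.g (gam_fst hδX s) (mkT hδX s).hq₁ s.compat

section Morphism

variable {s t : Bivar.OSq X δX} (h : t.Y ⟶ s.Y) (w : h ≫ s.g = t.g)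

/-- The morphism on products. -/
def mapP : (mkT hδX t).P ⟶ (mkT hδX s).P :=
  pullback.lift (f := pX) (g := s.g ≫ pX) (pullback.fst pX (t.g ≫ pX)) (pullback.snd pX (t.g ≫ pX) ≫ h)
    (by rw [pullback.condition, Category.assoc, reassoc_of% w])

theorem mapP_fst : mapP hδX h w ≫ (mkT hδX s).q₁ = (mkT hδX t).q₁ := pullback.lift_fst _ _ _

theorem mapP_snd : mapP hδX h w ≫ (mkT hδX s).q₂ = (mkT hδX t).q₂ ≫ h := pullback.lift_snd _ _ _

theorem mapP_isPullback : IsPullback (mapP hδX h w) (mkT hδX t).q₂ (mkT hδX s).q₂ h := by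
  refine IsPullback.of_right (h₂₂ := s.g ≫ pX) ?_ (mapP_snd hδX h w) (mkT hδX s).hsq
  rw [mapP_fst, reassoc_of% w]
  exact (mkT hδX t).hsq

theorem gam_mapP : gam hδX t ≫ mapP hδX h w = h ≫ gam hδX s := by
  refine (mkT hδX s).hsq.hom_ext ?_ ?_
  · rw [Category.assoc, mapP_fst, gam_fst, Category.assoc, gam_fst, w]
  · rw [Category.assoc, mapP_snd, ← Category.assoc, gam_snd, Category.assoc, gam_snd]
    exact (Category.id_comp h).trans (Category.comp_id h).symm

theorem gam_isPullback : IsPullback h (gam hδX t) (gam hδX s) (mapP hδX h w) := by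
  refine IsPullback.of_bot ?_ (gam_mapP hδX h w).symm (mapP_isPullback hδX h w)
  rw [gam_snd, gam_snd]
  exact IsPullback.of_vert_isIso ⟨by rw [Category.id_comp, Category.comp_id]⟩

theorem mapP_compat : Cyc.DeltaCompat (mapP hδX h w) (mkT hδX t).δP (mkT hδX s).δP :=
  C1.deltaCompat_of_comp _ (mkT hδX s).q₁ (mkT hδX t).q₁ (mapP_fst hδX h w) (mkT hδX s).hq₁ (mkT hδX t).hq₁

variable (x : X)

/-- The morphism on products with a point. -/
def mapX : PT (mkT hδX t) x ⟶ PT (mkT hδX s) x :=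
  pullback.lift (jx (mkT hδX t) x ≫ mapP hδX h w) (pullback.snd (mkT hδX t).q₁ (CycPush.clι x))
    (by rw [Category.assoc, mapP_fst]; exact pullback.condition)

theorem mapX_jx : mapX hδX h w x ≫ jx (mkT hδX s) x = jx (mkT hδX t) x ≫ mapP hδX h w := pullback.lift_fst _ _ _

theorem mapX_isPullback : IsPullback (mapX hδX h w x) (jx (mkT hδX t) x) (jx (mkT hδX s) x) (mapP hδX h w) := by
  refine IsPullback.of_right (h₁₂ := pullback.snd (mkT hδX s).q₁ (CycPush.clι x)) ?_ (mapX_jx hδX h w x)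
    (IsPullback.of_hasPullback (mkT hδX s).q₁ (CycPush.clι x)).flip
  rw [mapP_fst, show mapX hδX h w x ≫ pullback.snd (mkT hδX s).q₁ (CycPush.clι x) =
    pullback.snd (mkT hδX t).q₁ (CycPush.clι x) from pullback.lift_snd _ _ _]
  exact (IsPullback.of_hasPullback (mkT hδX t).q₁ (CycPush.clι x)).flip

theorem mapX_isPullback' : IsPullback (mapX hδX h w x) (πx (mkT hδX t) x) (πx (mkT hδX s) x) h :=
  (mapX_isPullback hδX h w x).paste_vert (mapP_isPullback hδX h w)

include hX in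
theorem mapX_compat : Cyc.DeltaCompat (mapX hδX h w x) (δx (mkT hδX t) x) (δx (mkT hδX s) x) :=
  C1.deltaCompat_of_comp _ (jx (mkT hδX s) x) (jx (mkT hδX t) x ≫ mapP hδX h w) (mapX_jx hδX h w x)
    (compat_jx hX hδX _ x) (deltaCompat_comp' _ _ (compat_jx hX hδX _ x) (mapP_compat hδX h w))

include w in
theorem hom_compat : Cyc.DeltaCompat h t.δ s.δ := C1.deltaCompat_of_comp h s.g t.g w s.compat t.compat

include w in
theorem hom_lft : LocallyOfFiniteType h := by
  haveI : LocallyOfFiniteType (h ≫ s.g) := w ▸ t.lft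
  exact locallyOfFiniteType_of_comp h s.g

end Morphism

variable (Dat : ∀ s : Bivar.OSq X δX, KData (mkT hδX s))

/-- The operation of the class attached to the functional. -/
def opS (s : Bivar.OSq X δX) (k : ℤ) : ChowOps.CH s.Y s.δ k →+ ChowOps.CH s.Y s.δ (k - p) :=
  opHom hX (Dat s) φ (gam hδX s) (gam_compat hδX s) k


end GrothLib.KronOp

end
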