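import Groth.Agent.Lib.ExtP17.Kron
import Groth.Agent.Lib.PBDeg17.BivGysin
import Groth.Agent.Lib.PBDeg17.ChowCls

/-!
# Homomorphisms of Chow groups for the Kronecker duality
-/

set_option autoImplicit false
set_option backward.isDefEq.respectTransparency false
set_option linter.style.haveILetI false
set_option linter.unusedVariables false

universe u

open CategoryTheory CategoryTheory.Limits AlgebraicGeometry IsLocalRing TopologicalSpace
open GrothLib.CycFlat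

noncomputable section

namespace GrothLib.KronOp

open GrothLib GrothLib.C1 GrothLib.PBDeg

variable {A B C D : Scheme.{u}} {δA : A → ℤ} {δB : B → ℤ} {δC : C → ℤ} {δD : D → ℤ}

/-- Proper pushforward of Chow classes. -/
def pushH (f : A ⟶ B) [IsProper f] (hA : Cyc.IsSetup A δA) (hB : Cyc.IsSetup B δB)
    (hf : Cyc.DeltaCompat f δA δB) (k : ℤ) : ChowOps.CH A δA k →+ ChowOps.CH B δB k :=
  (exists_mapHom f hA hB hf k).choose

theorem pushH_cl (f : A ⟶ B) [IsProper f] (hA : Cyc.IsSetup A δA) (hB : Cyc.IsSetup B δB)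
    (hf : Cyc.DeltaCompat f δA δB) {k : ℤ} (α : AlgebraicCycle A ℤ) (hα : α ∈ Cyc.Zk A δA k) :
    pushH f hA hB hf k (ChowOps.cl α hα) =
      ChowOps.cl (AlgebraicCycle.map f δA δB α) (Bivar.cycMap_mem_Zk f δA δB k hα) :=
  (exists_mapHom f hA hB hf k).choose_spec α hα _

theorem pushH_congr {f f' : A ⟶ B} (e : f = f') [IsProper f] [IsProper f'] (hA : Cyc.IsSetup A δA)
    (hB : Cyc.IsSetup B δB) (hf : Cyc.DeltaCompat f δA δB) (hf' : Cyc.DeltaCompat f' δA δB) (k : ℤ)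
    (x : ChowOps.CH A δA k) : pushH f hA hB hf k x = pushH f' hA hB hf' k x := by
  subst e; rfl

theorem pushH_pushH {g : A ⟶ B} [IsProper g] {h : B ⟶ D} [IsProper h] {g' : A ⟶ C} [IsProper g'] {h' : C ⟶ D}
    [IsProper h'] (w : g ≫ h = g' ≫ h') (hA : Cyc.IsSetup A δA) (hB : Cyc.IsSetup B δB) (hC : Cyc.IsSetup C δC)
    (hD : Cyc.IsSetup D δD) (hg : Cyc.DeltaCompat g δA δB) (hh : Cyc.DeltaCompat h δB δD)
    (hg' : Cyc.DeltaCompat g' δA δC) (hh' : Cyc.DeltaCompat h' δC δD) (k : ℤ) (x : ChowOps.CH A δA k) :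
    pushH h hB hD hh k (pushH g hA hB hg k x) = pushH h' hC hD hh' k (pushH g' hA hC hg' k x) := by
  obtain ⟨α, hα, rfl⟩ := Bivar.exists_rep x
  rw [pushH_cl, pushH_cl, pushH_cl, pushH_cl]
  exact Bivar.cl_congr (by
    rw [CycBasic.map_map g h _ _ _ hg hh, CycBasic.map_map g' h' _ _ _ hg' hh', ExtP17.map_congr_hom w]) _ _

theorem pushH_id_comp {g : A ⟶ B} [IsProper g] {h : B ⟶ A} [IsProper h] (w : g ≫ h = 𝟙 A) (hA : Cyc.IsSetup A δA)
    (hB : Cyc.IsSetup B δB) (hg : Cyc.DeltaCompat g δA δB) (hh : Cyc.DeltaCompat h δB δA) (k : ℤ)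
    (x : ChowOps.CH A δA k) : pushH h hB hA hh k (pushH g hA hB hg k x) = x := by
  obtain ⟨α, hα, rfl⟩ := Bivar.exists_rep x
  rw [pushH_cl, pushH_cl]
  exact Bivar.cl_congr (by rw [CycBasic.map_map g h _ _ _ hg hh, ExtP17.map_congr_hom w, map_id_cycle]) _ _

theorem exists_pullHom (f : A ⟶ B) [Flat f] [LocallyOfFiniteType f] {r : ℕ} (hr : Cyc.HasRelDim f r)
    (hA : Cyc.IsSetup A δA) (hB : Cyc.IsSetup B δB) (hf : Cyc.DeltaCompat f δA δB) {k l : ℤ} (hl : k + r = l) :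
    ∃ φ : ChowOps.CH B δB k →+ ChowOps.CH A δA l, ∀ (α : AlgebraicCycle B ℤ) (hα : α ∈ Cyc.Zk B δB k)
      (α' : AlgebraicCycle A ℤ) (hα' : α' ∈ Cyc.Zk A δA l), ⇑α' = Cyc.pullFun f δA δB (r : ℤ) ⇑α →
        φ (ChowOps.cl α hα) = ChowOps.cl α' hα' := by
  haveI := hA.1
  haveI := hB.1
  subst hl
  have hs := shift_of_hasRelDim f hr hf
  obtain ⟨φ, hφ⟩ := exists_chHom hA.2.2 (δ := δB) (k := k) (l := k + r)
    (fun a => toCycle _ (lf_pullFun f hA.2.2 hs (LF.of_cycle a)))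
    (fun a ha => Bivar.pullFun_mem_Zk f δA δB _ _ ha _ rfl)
    (fun a b _ _ => by
      ext x
      show Cyc.pullFun f δA δB r ⇑(a + b) x = Cyc.pullFun f δA δB r ⇑a x + Cyc.pullFun f δA δB r ⇑b x
      rw [Function.locallyFinsuppWithin.coe_add, Bivar.pullFun_add, Pi.add_apply])
    (fun a _ ha => RZ.of_ratEquivZero hA.2.2 (CycDiv.ratEquivZero_pullFun f hA.2.2 hB.2.2 hs k a ha _ rfl))
  exact ⟨φ, fun α hα α' hα' e => (hφ α hα).trans (Bivar.cl_congr (DFunLike.coe_injective e.symm) _ _)⟩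

open Classical in
/-- Flat pullback of Chow classes (zero between weights which do not differ by the relative dimension). -/
def pullH (f : A ⟶ B) [Flat f] [LocallyOfFiniteType f] {r : ℕ} (hr : Cyc.HasRelDim f r)
    (hA : Cyc.IsSetup A δA) (hB : Cyc.IsSetup B δB) (hf : Cyc.DeltaCompat f δA δB) (k l : ℤ) :
    ChowOps.CH B δB k →+ ChowOps.CH A δA l :=
  if h : k + r = l then (exists_pullHom f hr hA hB hf h).choose else 0

theorem pullH_cl (f : A ⟶ B) [Flat f] [LocallyOfFiniteType f] {r : ℕ} (hr : Cyc.HasRelDim f r)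
    (hA : Cyc.IsSetup A δA) (hB : Cyc.IsSetup B δB) (hf : Cyc.DeltaCompat f δA δB) {k l : ℤ} (hl : k + r = l)
    {α : AlgebraicCycle B ℤ} (hα : α ∈ Cyc.Zk B δB k) {α' : AlgebraicCycle A ℤ} (hα' : α' ∈ Cyc.Zk A δA l)
    (e : ⇑α' = Cyc.pullFun f δA δB (r : ℤ) ⇑α) :
    pullH f hr hA hB hf k l (ChowOps.cl α hα) = ChowOps.cl α' hα' := by
  rw [pullH, dif_pos hl]
  exact (exists_pullHom f hr hA hB hf hl).choose_spec α hα α' hα' e

theorem exists_pullCycle (f : A ⟶ B) [Flat f] [LocallyOfFiniteType f] {r : ℕ} (hr : Cyc.HasRelDim f r)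
    (hA : Cyc.IsSetup A δA) (hB : Cyc.IsSetup B δB) (hf : Cyc.DeltaCompat f δA δB) {k l : ℤ} (hl : k + r = l)
    {α : AlgebraicCycle B ℤ} (hα : α ∈ Cyc.Zk B δB k) :
    ∃ (α' : AlgebraicCycle A ℤ) (_ : α' ∈ Cyc.Zk A δA l), ⇑α' = Cyc.pullFun f δA δB (r : ℤ) ⇑α := by
  haveI := hA.1
  haveI := hB.1
  subst hl
  refine ⟨toCycle _ (lf_pullFun f hA.2.2 (shift_of_hasRelDim f hr hf) (LF.of_cycle α)),
    Bivar.pullFun_mem_Zk f δA δB _ _ hα _ rfl, rfl⟩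

/-- Pullback commutes with pushforward in cartesian squares. -/
theorem pullH_pushH {g : A ⟶ B} {f : A ⟶ C} {f' : B ⟶ D} {g' : C ⟶ D} (hc : IsPullback g f f' g') [IsProper g]
    [IsProper g'] [Flat f] [LocallyOfFiniteType f] [Flat f'] [LocallyOfFiniteType f'] {r : ℕ}
    (hr : Cyc.HasRelDim f r) (hr' : Cyc.HasRelDim f' r) (hA : Cyc.IsSetup A δA) (hB : Cyc.IsSetup B δB)
    (hC : Cyc.IsSetup C δC) (hD : Cyc.IsSetup D δD) (hg : Cyc.DeltaCompat g δA δB) (hf : Cyc.DeltaCompat f δA δC)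
    (hf' : Cyc.DeltaCompat f' δB δD) (hg' : Cyc.DeltaCompat g' δC δD) {k l : ℤ} (hl : k + r = l)
    (x : ChowOps.CH C δC k) :
    pullH f' hr' hB hD hf' k l (pushH g' hC hD hg' k x) = pushH g hA hB hg l (pullH f hr hA hC hf k l x) := by
  obtain ⟨α, hα, rfl⟩ := Bivar.exists_rep x
  obtain ⟨α', hα', e'⟩ := exists_pullCycle f hr hA hC hf hl hα
  rw [pushH_cl, pullH_cl f hr hA hC hf hl hα hα' e', pushH_cl]
  exact pullH_cl f' hr' hB hD hf' hl _ _
    (C1.BasePush.pullFun_map hc hB.2.2 hg' hg (shift_of_hasRelDim f' hr' hf') α α' e').symm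

/-- Pullbacks compose. -/
theorem pullH_pullH {g : A ⟶ B} {h : B ⟶ D} {g' : A ⟶ C} {h' : C ⟶ D} (w : g ≫ h = g' ≫ h') [Flat g]
    [LocallyOfFiniteType g] [Flat h] [LocallyOfFiniteType h] [Flat g'] [LocallyOfFiniteType g'] [Flat h']
    [LocallyOfFiniteType h'] {a b a' b' : ℕ}
    (hra : Cyc.HasRelDim g a) (hrb : Cyc.HasRelDim h b) (hra' : Cyc.HasRelDim g' a') (hrb' : Cyc.HasRelDim h' b')
    (hA : Cyc.IsSetup A δA) (hB : Cyc.IsSetup B δB) (hC : Cyc.IsSetup C δC) (hD : Cyc.IsSetup D δD)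
    (hg : Cyc.DeltaCompat g δA δB) (hh : Cyc.DeltaCompat h δB δD) (hg' : Cyc.DeltaCompat g' δA δC)
    (hh' : Cyc.DeltaCompat h' δC δD) {k l l' m : ℤ} (h1 : k + b = l) (h2 : l + a = m) (h1' : k + b' = l')
    (h2' : l' + a' = m) (x : ChowOps.CH D δD k) :
    pullH g hra hA hB hg l m (pullH h hrb hB hD hh k l x) =
      pullH g' hra' hA hC hg' l' m (pullH h' hrb' hC hD hh' k l' x) := by
  obtain ⟨α, hα, rfl⟩ := Bivar.exists_rep x
  obtain ⟨u₁, hu₁, e₁⟩ := exists_pullCycle h hrb hB hD hh h1 hα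
  obtain ⟨u₂, hu₂, e₂⟩ := exists_pullCycle g hra hA hB hg h2 hu₁
  obtain ⟨v₁, hv₁, f₁⟩ := exists_pullCycle h' hrb' hC hD hh' h1' hα
  obtain ⟨v₂, hv₂, f₂⟩ := exists_pullCycle g' hra' hA hC hg' h2' hv₁
  rw [pullH_cl _ _ _ _ _ h1 hα hu₁ e₁, pullH_cl _ _ _ _ _ h2 hu₁ hu₂ e₂, pullH_cl _ _ _ _ _ h1' hα hv₁ f₁,
    pullH_cl _ _ _ _ _ h2' hv₁ hv₂ f₂]
  refine Bivar.cl_congr (DFunLike.coe_injective ?_) _ _
  show ⇑u₂ = ⇑v₂
  rw [e₂, e₁, f₂, f₁, ← pullFun_comp g h hA.2.2 hB.2.2 (shift_of_hasRelDim h hrb hh) (shift_of_hasRelDim g hra hg),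
    ← pullFun_comp g' h' hA.2.2 hC.2.2 (shift_of_hasRelDim h' hrb' hh') (shift_of_hasRelDim g' hra' hg')]
  have e : (b : ℤ) + a = b' + a' := by omega
  rw [e]
  congr 1

/-- The degree on Chow groups of a scheme proper over a field. -/
theorem exists_degHom {K : Type u} [Field K] (pA : A ⟶ Spec (CommRingCat.of K)) [IsProper pA]
    (hA : Cyc.IsSetup A δA) (hpA : Cyc.DeltaCompat pA δA (fun _ => 0)) (k : ℤ) :
    ∃ φ : ChowOps.CH A δA k →+ ℤ, ∀ (α : AlgebraicCycle A ℤ) (hα : α ∈ Cyc.Zk A δA k),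
      φ (ChowOps.cl α hα) = ChowOps.deg pA δA α := by
  haveI := hA.1
  have hpt := ChowStrata17.isSetup_point K
  haveI := hpt.1
  let ψ : ↥(ChowOps.zk A δA k) →+ ℤ := AddMonoidHom.mk' (fun a => ChowOps.deg pA δA a.1) fun a b => by
    show AlgebraicCycle.map pA δA _ (a.1 + b.1) (closedPoint K) = _
    rw [Bivar.cycMap_add]
    rfl
  have hker : ChowOps.ratTriv A δA k ≤ ψ.ker := (AddSubgroup.closure_le _).2 fun a ha => by
    show AlgebraicCycle.map pA δA _ a.1 (closedPoint K) = 0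
    by_cases hk : (0 : ℤ) = k
    · obtain ⟨ι, ξ, f, hdim, -, -, hsum⟩ := C1.ratEquivZero_map pA hA.2.2 hpt.2.2 hpA ha
      have : IsEmpty ι := ⟨fun i => by
        have h : (0 : ℤ) = k + 1 := hdim i
        omega⟩
      rw [hsum, finsum_of_isEmpty]
    · exact Bivar.cycMap_mem_Zk pA δA (fun _ => (0 : ℤ)) k a.2 _ hk
  exact ⟨QuotientAddGroup.lift _ ψ hker, fun α hα => rfl⟩

end GrothLib.KronOp

end
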