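import Groth.Agent.Lib.ExtP17.KronAlg
import Mathlib.Algebra.DirectSum.Module
import Mathlib.LinearAlgebra.TensorProduct.Basic

/-!
# Operational classes from functionals, under the Künneth property
-/

set_option autoImplicit false
set_option backward.isDefEq.respectTransparency false
set_option linter.style.haveILetI false
set_option linter.unusedVariables false
set_option maxHeartbeats 800000
set_option synthInstance.maxHeartbeats 200000

universe u

open CategoryTheory CategoryTheory.Limits AlgebraicGeometry IsLocalRing TopologicalSpace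
open GrothLib.CycFlat
open scoped TensorProduct DirectSum

noncomputable section

namespace GrothLib.KronOp

open GrothLib GrothLib.C1 GrothLib.PBDeg

variable {K : Type u} [Field K] {X : Scheme.{u}} {pX : X ⟶ Spec (CommRingCat.of K)} [IsProper pX] {δX : X → ℤ}
  (hX : Cyc.IsSetup X δX) (hδX : Cyc.DeltaCompat pX δX (fun _ => 0))

variable {p : ℤ} (φ : ChowOps.CH X δX p →+ ℤ) (Dat : ∀ s : Bivar.OSq X δX, KData (mkT hδX s))

theorem opS_push (s t : Bivar.OSq X δX) (h : t.Y ⟶ s.Y) [IsProper h] (w : h ≫ s.g = t.g) (k : ℤ) :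
    Bivar.PushOK t.δ t.δ s.δ s.δ h h (opS hX hδX φ Dat t k) (opS hX hδX φ Dat s k) := by
  classical
  intro α hα
  obtain ⟨β, hβ, hβe⟩ := Bivar.exists_rep (opS hX hδX φ Dat t k (ChowOps.cl α hα))
  refine ⟨β, hβ, hβe.symm, ?_⟩
  let S := mkT hδX s
  let T := mkT hδX t
  haveI : IsProper (mapP hδX h w) := MorphismProperty.of_isPullback (P := @IsProper) (mapP_isPullback hδX h w).flip inferInstance
  have hc : Cyc.DeltaCompat h t.δ s.δ := hom_compat h w
  have key := op_natural hX hδX φ (Dat t) (Dat s) (gam hδX t) (gam hδX s) (gam_compat hδX t) (gam_compat hδX s) 0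
    (fun k l => if e : k = l then (Bivar.chCast s.Y s.δ e).toAddMonoidHom.comp (pushH h (T.sY hX) (S.sY hX) hc k) else 0)
    (fun k l => if e : k = l then (Bivar.chCast S.P S.δP e).toAddMonoidHom.comp
      (pushH (mapP hδX h w) (T.sP hX) (S.sP hX) (mapP_compat hδX h w) k) else 0)
    (fun k l hkl z => by
      obtain rfl : k = l := by omega
      rw [dif_pos rfl, dif_pos rfl]
      exact pushH_pushH (gam_mapP hδX h w) (T.sY hX) (T.sP hX) (S.sY hX) (S.sP hX) (gam_compat hδX t) (mapP_compat hδX h w) hc (gam_compat hδX s) k z)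
    (fun x k l k' l' h1 h2 hkl z => by
      obtain rfl : k = l := by omega
      obtain rfl : k' = l' := by omega
      rw [dif_pos rfl, dif_pos rfl]
      haveI : IsProper (mapX hδX h w x) :=
        MorphismProperty.of_isPullback (P := @IsProper) (mapX_isPullback' hδX h w x).flip inferInstance
      have hk : k + ((δX x).toNat : ℤ) = k' := by rw [delta_nonneg hX hδX]; exact h1
      change pushH (mapP hδX h w) (T.sP hX) (S.sP hX) (mapP_compat hδX h w) k'
          (pushH (jx T x) (sx hX hδX T x) (T.sP hX) (compat_jx hX hδX T x) k'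
            (pullH (πx T x) (relDim_πx hX hδX T x) (sx hX hδX T x) (T.sY hX) (compat_πx hX hδX T x) k k' z)) =
        pushH (jx S x) (sx hX hδX S x) (S.sP hX) (compat_jx hX hδX S x) k'
          (pullH (πx S x) (relDim_πx hX hδX S x) (sx hX hδX S x) (S.sY hX) (compat_πx hX hδX S x) k k'
            (pushH h (T.sY hX) (S.sY hX) hc k z))
      erw [pullH_pushH (mapX_isPullback' hδX h w x) (relDim_πx hX hδX T x) (relDim_πx hX hδX S x) (sx hX hδX T x)
        (sx hX hδX S x) (T.sY hX) (S.sY hX) (mapX_compat hX hδX h w x) (compat_πx hX hδX T x)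
        (compat_πx hX hδX S x) hc hk]
      exact (pushH_pushH (mapX_jx hδX h w x) (sx hX hδX T x) (sx hX hδX S x) (T.sP hX) (S.sP hX) (mapX_compat hX hδX h w x) (compat_jx hX hδX S x) (compat_jx hX hδX T x) (mapP_compat hδX h w) k' _).symm)
    k k (add_zero k) (ChowOps.cl α hα)
  rw [dif_pos rfl, dif_pos rfl] at key
  have hk1 : pushH h (T.sY hX) (S.sY hX) hc k (ChowOps.cl α hα) =
      ChowOps.cl (AlgebraicCycle.map h t.δ s.δ α) (Bivar.cycMap_mem_Zk h t.δ s.δ k hα) := pushH_cl h _ _ _ α hα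
  refine (congrArg (opS hX hδX φ Dat s k) hk1.symm).trans (key.trans ?_)
  show pushH h (T.sY hX) (S.sY hX) hc (k - p) (opS hX hδX φ Dat t k (ChowOps.cl α hα)) = _
  rw [← hβe]
  exact pushH_cl h _ _ _ β hβ

theorem opS_pull (s t : Bivar.OSq X δX) (h : t.Y ⟶ s.Y) [Flat h] (r : ℕ) (hr : Cyc.HasRelDim h r)
    (w : h ≫ s.g = t.g) (k : ℤ) :
    Bivar.PullOK s.δ s.δ t.δ t.δ h h (r : ℤ) (opS hX hδX φ Dat s k) (opS hX hδX φ Dat t (k + r)) := by
  classical
  intro α hα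
  obtain ⟨β, hβ, hβe⟩ := Bivar.exists_rep (opS hX hδX φ Dat s k (ChowOps.cl α hα))
  refine ⟨β, hβ, hβe.symm, fun α₁ he hα₁ => ?_⟩
  let S := mkT hδX s
  let T := mkT hδX t
  haveI := hom_lft h w
  have hc : Cyc.DeltaCompat h t.δ s.δ := hom_compat h w
  haveI : Flat (mapP hδX h w) := MorphismProperty.of_isPullback (P := @Flat) (mapP_isPullback hδX h w).flip inferInstance
  haveI : LocallyOfFiniteType (mapP hδX h w) :=
    MorphismProperty.of_isPullback (P := @LocallyOfFiniteType) (mapP_isPullback hδX h w).flip inferInstance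
  have hrP : Cyc.HasRelDim (mapP hδX h w) r := hasRelDim_of_isPullback (mapP_isPullback hδX h w).flip hr
  have key := op_natural hX hδX φ (Dat s) (Dat t) (gam hδX s) (gam hδX t) (gam_compat hδX s) (gam_compat hδX t) r
    (fun k l => pullH h hr (T.sY hX) (S.sY hX) hc k l)
    (fun k l => pullH (mapP hδX h w) hrP (T.sP hX) (S.sP hX) (mapP_compat hδX h w) k l)
    (fun k l hkl z => pullH_pushH (gam_isPullback hδX h w).flip hr hrP (T.sY hX) (T.sP hX) (S.sY hX) (S.sP hX)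
      (gam_compat hδX t) hc (mapP_compat hδX h w) (gam_compat hδX s) hkl z)
    (fun x k l k' l' h1 h2 hkl z => by
      haveI : Flat (mapX hδX h w x) :=
        MorphismProperty.of_isPullback (P := @Flat) (mapX_isPullback' hδX h w x).flip inferInstance
      haveI : LocallyOfFiniteType (mapX hδX h w x) :=
        MorphismProperty.of_isPullback (P := @LocallyOfFiniteType) (mapX_isPullback' hδX h w x).flip inferInstance
      have hrX : Cyc.HasRelDim (mapX hδX h w x) r := hasRelDim_of_isPullback (mapX_isPullback' hδX h w x).flip hr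
      simp only [E, AddMonoidHom.comp_apply]
      erw [pullH_pushH (mapX_isPullback hδX h w x).flip hrX hrP (sx hX hδX T x) (T.sP hX) (sx hX hδX S x) (S.sP hX)
        (compat_jx hX hδX T x) (mapX_compat hX hδX h w x) (mapP_compat hδX h w) (compat_jx hX hδX S x)
        (show k' + (r : ℤ) = l' by omega)]
      refine congrArg _ (pullH_pullH (mapX_isPullback' hδX h w x).w hrX _ _ hr (sx hX hδX T x) (sx hX hδX S x)
        (T.sY hX) (S.sY hX) _ _ _ _ ?_ ?_ hkl ?_ z)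
      · rw [delta_nonneg hX hδX]; exact h1
      · omega
      · rw [delta_nonneg hX hδX]; exact h2)
    k (k + r) rfl (ChowOps.cl α hα)
  obtain ⟨β₁, hβ₁, hβ₁e⟩ := exists_pullCycle h hr (T.sY hX) (S.sY hX) hc
    (show k - p + (r : ℤ) = k + r - p by ring) hβ
  refine ⟨β₁, hβ₁, hβ₁e, ?_⟩
  have h1 : pullH h hr (T.sY hX) (S.sY hX) hc k (k + r) (ChowOps.cl α hα) = ChowOps.cl α₁ hα₁ :=
    pullH_cl h hr (T.sY hX) (S.sY hX) hc rfl hα hα₁ he
  refine (congrArg (opS hX hδX φ Dat t (k + r)) h1.symm).trans (key.trans ?_)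
  show pullH h hr (T.sY hX) (S.sY hX) hc (k - p) (k + r - p) (opS hX hδX φ Dat s k (ChowOps.cl α hα)) = _
  rw [← hβe]
  exact pullH_cl h hr (T.sY hX) (S.sY hX) hc (show k - p + (r : ℤ) = k + r - p by ring) hβ hβ₁ hβ₁e

theorem gysin_push {S D : Scheme.{u}} {δS : S → ℤ} {δD : D → ℤ} {i : D ⟶ S} (c : Bivar.Cl 1 i δD δS)
    {a b : Bivar.Sq i δD δS} (h : b.Y' ⟶ a.Y') [IsProper h] (h' : b.X' ⟶ a.X') [IsProper h'] (w₁ : h ≫ a.g = b.g)
    (w₂ : h' ≫ a.f' = b.f' ≫ h) (w₃ : h' ≫ a.g' = b.g') (hb : Cyc.IsSetup b.Y' b.δY') (ha : Cyc.IsSetup a.Y' a.δY')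
    (hb' : Cyc.IsSetup b.X' b.δX') (ha' : Cyc.IsSetup a.X' a.δX') (hc : Cyc.DeltaCompat h b.δY' a.δY')
    (hc' : Cyc.DeltaCompat h' b.δX' a.δX') (k : ℤ) (z : ChowOps.CH b.Y' b.δY' k) :
    c.op a k (pushH h hb ha hc k z) = pushH h' hb' ha' hc' (k - 1) (c.op b k z) := by
  obtain ⟨α, hα, rfl⟩ := Bivar.exists_rep z
  obtain ⟨β, hβ, e₁, e₂⟩ := c.push a b h h' w₁ w₂ w₃ k α hα
  rw [pushH_cl, e₁, e₂, pushH_cl]

theorem gysin_pull {S D : Scheme.{u}} {δS : S → ℤ} {δD : D → ℤ} {i : D ⟶ S} (c : Bivar.Cl 1 i δD δS)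
    {a b : Bivar.Sq i δD δS} (h : b.Y' ⟶ a.Y') [Flat h] [LocallyOfFiniteType h] (h' : b.X' ⟶ a.X') [Flat h']
    [LocallyOfFiniteType h'] {r : ℕ} (hr : Cyc.HasRelDim h r) (hr' : Cyc.HasRelDim h' r) (w₁ : h ≫ a.g = b.g)
    (w₂ : h' ≫ a.f' = b.f' ≫ h) (w₃ : h' ≫ a.g' = b.g') (hb : Cyc.IsSetup b.Y' b.δY') (ha : Cyc.IsSetup a.Y' a.δY')
    (hb' : Cyc.IsSetup b.X' b.δX') (ha' : Cyc.IsSetup a.X' a.δX') (hc : Cyc.DeltaCompat h b.δY' a.δY')
    (hc' : Cyc.DeltaCompat h' b.δX' a.δX') (k l : ℤ) (hl : k + r = l) (z : ChowOps.CH a.Y' a.δY' k) :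
    c.op b l (pullH h hr hb ha hc k l z) = pullH h' hr' hb' ha' hc' (k - 1) (l - 1) (c.op a k z) := by
  subst hl
  obtain ⟨α, hα, rfl⟩ := Bivar.exists_rep z
  obtain ⟨β, hβ, e₁, e₂⟩ := c.pull a b h h' r hr hr' w₁ w₂ w₃ k α hα
  obtain ⟨α₁, hα₁, hα₁e⟩ := exists_pullCycle h hr hb ha hc (rfl : k + (r : ℤ) = k + r) hα
  obtain ⟨β₁, hβ₁, hβ₁e, e₃⟩ := e₂ α₁ hα₁e hα₁
  rw [pullH_cl h hr hb ha hc rfl hα hα₁ hα₁e, e₃, e₁,
    pullH_cl h' hr' hb' ha' hc' (show k - 1 + (r : ℤ) = k + r - 1 by ring) hβ hβ₁ hβ₁e]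

theorem opS_gysin (s t : Bivar.OSq X δX) (i : t.Y ⟶ s.Y) [IsClosedImmersion i] (w : i ≫ s.g = t.g) (L : s.Y.Modules)
    (hL : PicF.IsInvertible L) (σ : L.presheaf.obj (Opposite.op ⊤)) (hσ : Cyc.IsZeroSchemeOf i L σ) (k : ℤ) :
    Bivar.GysinOK₁ s.δ t.δ i L σ (opS hX hδX φ Dat s k) (opS hX hδX φ Dat t (k - 1)) := by
  classical
  intro α hα
  obtain ⟨β, hβ, hβe⟩ := Bivar.exists_rep (opS hX hδX φ Dat s k (ChowOps.cl α hα))
  refine ⟨β, hβ, hβe.symm, fun u hu γ hγc hγ => ?_⟩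
  let S := mkT hδX s
  let T := mkT hδX t
  have hSY : Cyc.IsSetup s.Y s.δ := S.sY hX
  have hTY : Cyc.IsSetup t.Y t.δ := T.sY hX
  have hc : Cyc.DeltaCompat i t.δ s.δ := hom_compat i w
  have hδt : t.δ = fun d => s.δ (i d) := delta_closed hc
  obtain ⟨c, hc1⟩ := exists_isGysinClass hTY hSY hc hL hσ
  haveI : IsClosedImmersion (mapP hδX i w) :=
    MorphismProperty.of_isPullback (P := @IsClosedImmersion) (mapP_isPullback hδX i w).flip inferInstance
  let s0 : Bivar.Sq i t.δ s.δ := ⟨s.Y, t.Y, 𝟙 _, i, 𝟙 _, IsPullback.of_vert_isIso ⟨by simp⟩, inferInstance, s.δ, t.δ,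
    Bivar.deltaCompat_id _, Bivar.deltaCompat_id _⟩
  let sP : Bivar.Sq i t.δ s.δ := ⟨S.P, T.P, S.q₂, mapP hδX i w, T.q₂, mapP_isPullback hδX i w,
    show LocallyOfFiniteType S.q₂ from inferInstance, S.δP, T.δP, S.hq₂ hδX, T.hq₂ hδX⟩
  have key := op_natural hX hδX φ (Dat s) (Dat t) (gam hδX s) (gam hδX t) (gam_compat hδX s) (gam_compat hδX t) (-1)
    (fun k l => if e : k - 1 = l then (Bivar.chCast t.Y t.δ e).toAddMonoidHom.comp (c.op s0 k) else 0)
    (fun k l => if e : k - 1 = l then (Bivar.chCast T.P T.δP e).toAddMonoidHom.comp (c.op sP k) else 0)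
    (fun k l hkl z => by
      obtain rfl : k - 1 = l := by omega
      rw [dif_pos rfl, dif_pos rfl]
      exact gysin_push c (a := sP) (b := s0) (gam hδX s) (gam hδX t) (gam_snd hδX s) (gam_mapP hδX i w)
        (gam_snd hδX t) hSY (S.sP hX) hTY (T.sP hX) (gam_compat hδX s) (gam_compat hδX t) k z)
    (fun x k l k' l' h1 h2 hkl z => by
      obtain rfl : k - 1 = l := by omega
      obtain rfl : k' - 1 = l' := by omega
      rw [dif_pos rfl, dif_pos rfl]
      haveI : LocallyOfFiniteType (πx S x) := inferInstanceAs (LocallyOfFiniteType (jx S x ≫ S.q₂))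
      let sE : Bivar.Sq i t.δ s.δ := ⟨PT S x, PT T x, πx S x, mapX hδX i w x, πx T x, mapX_isPullback' hδX i w x,
        inferInstance, δx S x, δx T x, compat_πx hX hδX S x, compat_πx hX hδX T x⟩
      have hk : k + ((δX x).toNat : ℤ) = k' := by rw [delta_nonneg hX hδX]; exact h1
      change c.op sP k' (pushH (jx S x) (sx hX hδX S x) (S.sP hX) (compat_jx hX hδX S x) k'
          (pullH (πx S x) (relDim_πx hX hδX S x) (sx hX hδX S x) (S.sY hX) (compat_πx hX hδX S x) k k' z)) =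
        pushH (jx T x) (sx hX hδX T x) (T.sP hX) (compat_jx hX hδX T x) (k' - 1)
          (pullH (πx T x) (relDim_πx hX hδX T x) (sx hX hδX T x) (T.sY hX) (compat_πx hX hδX T x) (k - 1) (k' - 1)
            (c.op s0 k z))
      erw [gysin_push c (a := sP) (b := sE) (jx S x) (jx T x) rfl (mapX_jx hδX i w x).symm rfl (sx hX hδX S x)
        (S.sP hX) (sx hX hδX T x) (T.sP hX) (compat_jx hX hδX S x) (compat_jx hX hδX T x)]
      refine congrArg _ ?_
      exact gysin_pull c (a := s0) (b := sE) (πx S x) (πx T x) _ _ (Category.comp_id _)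
        (mapX_isPullback' hδX i w x).w.symm (Category.comp_id _) _ _ _ _ _ _ k k' hk z)
    k (k - 1) (sub_eq_add_neg k 1).symm (ChowOps.cl α hα)
  rw [dif_pos rfl, dif_pos (show k - p - 1 = k - 1 - p by ring)] at key
  haveI := hSY.1
  haveI := hTY.1
  let e : L ≅ (Scheme.Modules.pullback (𝟙 s.Y)).obj L := ((Scheme.Modules.pullbackId s.Y).app L).symm
  have hM := C1.isInvertible_pullback (𝟙 s.Y) hL
  have hgy : ∀ (l : ℤ) (a : AlgebraicCycle s.Y ℤ) (ha : a ∈ Cyc.Zk s.Y s.δ l) (g : AlgebraicCycle t.Y ℤ)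
      (hg : g ∈ Cyc.Zk t.Y t.δ (l - 1)),
      (∀ d, g d = Cyc.c1CapFun s.δ L ⇑a (Cyc.gysinChoice L σ u) (i d)) →
        c.op s0 l (ChowOps.cl a ha) = ChowOps.cl g hg := by
    intro l a ha g hg hge
    refine hc1.2.2.2 s0 (isoSec e σ) (isZeroSchemeOf_iso e hL hσ) l a ha (fun ξ => isoFib e ξ (u ξ))
      (fun ξ => isoFib_ne_zero _ hL (hu ξ)) g (fun d => ?_) hg
    rw [hge]
    show _ = Cyc.c1CapFun s.δ _ ⇑a (Cyc.gysinChoice _ (isoSec e σ) (fun ξ => isoFib e ξ (u ξ))) (i d)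
    rw [← gysinChoice_iso e hL, c1Cap_iso e hSY.2.2 hL hM]
  let ζ : AlgebraicCycle t.Y ℤ :=
    toCycle _ (lf_comp i (lf_c1Cap hSY.2.2 hL (LF.of_cycle β) (gysinChoice_ne_zero (s := σ) hu)))
  have hζ' : ζ ∈ Cyc.Zk t.Y t.δ (k - p - 1) := fun d hd => by
    show Cyc.c1CapFun s.δ L ⇑β _ (i d) = 0
    by_contra h
    rw [hδt] at hd
    exact hd (c1Cap_mem (fun ξ hξ => by rw [zk_supp hβ ξ hξ]; ring) _ h)
  have hek : k - p - 1 = k - 1 - p := by ring
  have hζ : ζ ∈ Cyc.Zk t.Y t.δ (k - 1 - p) := hek ▸ hζ'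
  refine ⟨ζ, hζ, fun d => rfl, ?_⟩
  refine (congrArg (opS hX hδX φ Dat t (k - 1)) (hgy k α hα γ hγ hγc).symm).trans (key.trans ?_)
  show Bivar.chCast t.Y t.δ hek (c.op s0 (k - p) (opS hX hδX φ Dat s k (ChowOps.cl α hα))) = _
  rw [← hβe, hgy (k - p) β hβ ζ hζ' fun d => rfl, Bivar.chCast_cl]

/-- The class attached to a functional. -/
def kronCl : Bivar.OpCl p X δX where
  op := opS hX hδX φ Dat
  push := fun s t h _ w k => opS_push hX hδX φ Dat s t h w k
  pull := fun s t h _ r hr w k => opS_pull hX hδX φ Dat s t h r hr w k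
  gysin := fun s t i _ w L hL σ hσ k => opS_gysin hX hδX φ Dat s t i w L hL σ hσ k


end GrothLib.KronOp

end
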