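import Groth.Agent.Lib.ExtP17.KronBase

/-!
# Exterior products with points of the proper factor
-/

set_option autoImplicit false
set_option backward.isDefEq.respectTransparency false
set_option linter.style.haveILetI false
set_option linter.unusedVariables false

universe u

open CategoryTheory CategoryTheory.Limits AlgebraicGeometry IsLocalRing TopologicalSpace
open GrothLib.CycFlat

noncomputable section

namespace GrothLib.KronOp

open GrothLib GrothLib.C1 GrothLib.PBDeg

variable {K : Type u} [Field K] {X : Scheme.{u}} {pX : X ⟶ Spec (CommRingCat.of K)} [IsProper pX] {δX : X → ℤ}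
variable (hX : Cyc.IsSetup X δX) (hδX : Cyc.DeltaCompat pX δX (fun _ => 0))

/-- A scheme over the field together with its product with `X`. -/
structure KTest (pX : X ⟶ Spec (CommRingCat.of K)) (δX : X → ℤ) : Type (u + 1) where
  Y : Scheme.{u}
  P : Scheme.{u}
  pY : Y ⟶ Spec (CommRingCat.of K)
  lft : LocallyOfFiniteType pY
  q₁ : P ⟶ X
  q₂ : P ⟶ Y
  hsq : IsPullback q₁ q₂ pX pY
  δY : Y → ℤ
  δP : P → ℤ
  hY : Cyc.DeltaCompat pY δY (fun _ => 0)
  hq₁ : Cyc.DeltaCompat q₁ δP δX

namespace KTest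

variable (T : KTest pX δX)

instance : LocallyOfFiniteType T.pY := T.lft

instance : IsProper T.q₂ := MorphismProperty.of_isPullback (P := @IsProper) T.hsq inferInstance

instance : LocallyOfFiniteType T.q₁ :=
  MorphismProperty.of_isPullback (P := @LocallyOfFiniteType) T.hsq.flip inferInstance

include hX hδX

theorem hP : Cyc.DeltaCompat (T.q₁ ≫ pX) T.δP (fun _ => 0) := deltaCompat_comp' T.q₁ pX T.hq₁ hδX

omit hX in
theorem hq₂ : Cyc.DeltaCompat T.q₂ T.δP T.δY :=
  C1.deltaCompat_of_comp T.q₂ T.pY (T.q₁ ≫ pX) T.hsq.w.symm T.hY (deltaCompat_comp' T.q₁ pX T.hq₁ hδX)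

omit hδX in
theorem sY : Cyc.IsSetup T.Y T.δY := isSetup_of_lft (ChowStrata17.isSetup_point K) T.pY T.hY

omit hδX in
theorem sP : Cyc.IsSetup T.P T.δP := isSetup_of_lft hX T.q₁ T.hq₁

end KTest

/-- The product of `T` with the closure of a point of `X`. -/
abbrev PT (T : KTest pX δX) (x : X) : Scheme.{u} := pullback T.q₁ (CycPush.clι x)

abbrev jx (T : KTest pX δX) (x : X) : PT T x ⟶ T.P := pullback.fst T.q₁ (CycPush.clι x)

abbrev πx (T : KTest pX δX) (x : X) : PT T x ⟶ T.Y := jx T x ≫ T.q₂

abbrev δx (T : KTest pX δX) (x : X) : PT T x → ℤ := fun w => T.δP (jx T x w)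

variable (T : KTest pX δX) (x : X)

theorem isPullback_x : IsPullback (πx T x) (pullback.snd T.q₁ (CycPush.clι x)) T.pY (CycPush.clι x ≫ pX) :=
  (IsPullback.of_hasPullback T.q₁ (CycPush.clι x)).paste_horiz T.hsq.flip

instance : IsProper (jx T x) := inferInstanceAs (IsProper (pullback.fst T.q₁ (CycPush.clι x)))

instance flat_πx : Flat (πx T x) := by
  haveI : Flat (CycPush.clι x ≫ pX) := by
    haveI : Subsingleton ↥(Spec (CommRingCat.of K)) := inferInstanceAs (Subsingleton (PrimeSpectrum K))
    infer_instance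
  exact MorphismProperty.of_isPullback (P := @Flat) (isPullback_x T x).flip inferInstance

include hX hδX in
theorem delta_nonneg : ((δX x).toNat : ℤ) = δX x := by
  obtain ⟨n, -, hn⟩ := hδX x
  have : δX x = n := by simpa using hn
  rw [this]
  rfl

include hX hδX in
theorem relDim_clι : Cyc.HasRelDim (CycPush.clι x ≫ pX) (δX x).toNat := (hasRelDim_iff _ _).2 fun w hw => by
  have hη : genericPoint (CycPush.clSub x) = w := hw _ (Subsingleton.elim (α := PrimeSpectrum K) _ _)
    (genericPoint_specializes w)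
  subst hη
  have hc : Cyc.DeltaCompat (CycPush.clι x ≫ pX) (fun w => δX (CycPush.clι x w)) (fun _ => 0) :=
    deltaCompat_comp' _ pX (PBDeg.deltaCompat_closed (CycPush.clι x) δX) hδX
  obtain ⟨n, hn, hnd⟩ := hc (genericPoint (CycPush.clSub x))
  have h1 : δX (CycPush.clι x (genericPoint (CycPush.clSub x))) = (0 : ℤ) + n := hnd
  rw [CycPush.clι_genericPoint] at h1
  have : n = (δX x).toNat := by omega
  exact this ▸ hn

include hX hδX in
theorem relDim_πx : Cyc.HasRelDim (πx T x) (δX x).toNat :=
  hasRelDim_of_isPullback (isPullback_x T x).flip (relDim_clι hX hδX x)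

include hX hδX in
theorem compat_jx : Cyc.DeltaCompat (jx T x) (δx T x) T.δP := PBDeg.deltaCompat_closed (jx T x) T.δP

include hX hδX in
theorem compat_πx : Cyc.DeltaCompat (πx T x) (δx T x) T.δY :=
  deltaCompat_comp' (jx T x) T.q₂ (compat_jx hX hδX T x) (T.hq₂ hδX)

include hX hδX in
theorem sx : Cyc.IsSetup (PT T x) (δx T x) := isSetup_of_lft (T.sP hX) (jx T x) (compat_jx hX hδX T x)

/-- The product with the class of the closure of a point of `X`. -/
def E (k l : ℤ) : ChowOps.CH T.Y T.δY k →+ ChowOps.CH T.P T.δP l :=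
  (pushH (jx T x) (sx hX hδX T x) (T.sP hX) (compat_jx hX hδX T x) l).comp
    (pullH (πx T x) (relDim_πx hX hδX T x) (sx hX hδX T x) (T.sY hX) (compat_πx hX hδX T x) k l)

include hX hδX in
theorem map_jx_eq (v : AlgebraicCycle T.Y ℤ) (v' : AlgebraicCycle (PT T x) ℤ)
    (e : ⇑v' = Cyc.pullFun (πx T x) (δx T x) T.δY ((δX x).toNat : ℤ) ⇑v) (z : T.P) :
    AlgebraicCycle.map (jx T x) (δx T x) T.δP v' z = ExtP17.pointProd T.q₂ T.q₁ T.δY δX T.δP ⇑v x z := by
  have hr : ∀ z, z ∈ Set.range (jx T x) ↔ x ⤳ T.q₁ z := fun z => by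
    rw [PBDeg.range_of_isPullback (IsPullback.of_hasPullback T.q₁ (CycPush.clι x)), Set.mem_preimage,
      CycPush.mem_range_clι]
  by_cases hz : z ∈ Set.range (jx T x)
  · obtain ⟨w, rfl⟩ := hz
    haveI := (T.sP hX).1
    haveI := hX.1
    have hker : ∀ w, T.q₁ (jx T x w) = x → RingHom.ker ((jx T x).stalkMap w).hom =
        (maximalIdeal (X.presheaf.stalk (T.q₁ (jx T x w)))).map (T.q₁.stalkMap (jx T x w)).hom := by
      intro w hw
      let η := genericPoint (CycPush.clSub x)
      have hη : CycPush.clι x η = x := CycPush.clι_genericPoint x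
      have hF : IsField ((CycPush.clSub x).presheaf.stalk η) := Field.toIsField (CycPush.clSub x).functionField
      have hk : RingHom.ker ((CycPush.clι x).stalkMap η).hom = maximalIdeal (X.presheaf.stalk (CycPush.clι x η)) := by
        letI := hF.toField
        haveI : (RingHom.ker ((CycPush.clι x).stalkMap η).hom).IsMaximal :=
          RingHom.ker_isMaximal_of_surjective _ ((CycPush.clι x).stalkMap_surjective η)
        exact IsLocalRing.eq_maximalIdeal inferInstance
      obtain ⟨U, hU, hyU, -⟩ := exists_isAffineOpen_mem_and_subset (x := CycPush.clι x η) (U := ⊤) trivial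
      rw [RelReg.ker_stalkMap_of_isPullback (IsPullback.of_hasPullback T.q₁ (CycPush.clι x)).flip ⟨U, hU⟩
        inferInstance η hyU w (hw.trans hη.symm), hk, CommRingCat.hom_comp, ← Ideal.map_map,
        ExtP17.map_maximalIdeal_stalkCongr (hw.trans hη.symm).symm]
    rw [CycPush.map_apply_of_preimmersion (jx T x) T.δP (fun _ => rfl), e]
    exact (ExtP17.pointProd_model T.hY hδX T.hsq.flip
      (deltaCompat_comp' T.q₂ T.pY (T.hq₂ hδX) T.hY) (delta_nonneg hX hδX x).symm hr hker v w).symm
  · rw [CycPush.map_apply_of_notMem_range (jx T x) T.δP _ _ hz,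
      ExtP17.pointProd_ne fun h : T.q₁ z = x => hz ((hr z).2 (h ▸ specializes_rfl))]

include hX hδX in
theorem E_cl {k l : ℤ} (hl : k + δX x = l) (v : AlgebraicCycle T.Y ℤ) (hv : v ∈ Cyc.Zk T.Y T.δY k) :
    ∃ (U : AlgebraicCycle T.P ℤ) (hU : U ∈ Cyc.Zk T.P T.δP l), E hX hδX T x k l (ChowOps.cl v hv) = ChowOps.cl U hU ∧
      ∀ z, U z = ExtP17.pointProd T.q₂ T.q₁ T.δY δX T.δP ⇑v x z := by
  have hl' : k + ((δX x).toNat : ℤ) = l := by rw [delta_nonneg hX hδX]; exact hl
  obtain ⟨v', hv', e⟩ := exists_pullCycle (πx T x) (relDim_πx hX hδX T x) (sx hX hδX T x) (T.sY hX)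
    (compat_πx hX hδX T x) hl' hv
  refine ⟨AlgebraicCycle.map (jx T x) (δx T x) T.δP v', Bivar.cycMap_mem_Zk _ _ _ _ hv', ?_, fun z => ?_⟩
  · rw [E, AddMonoidHom.comp_apply, pullH_cl (πx T x) _ _ _ _ hl' hv hv' e, pushH_cl]
  exact map_jx_eq hX hδX T x v v' e z

include hX hδX in
open Classical in
/-- The degree formula along the first projection. -/
theorem push_fst_E [IsProper T.pY] [IsProper T.q₁] {k l : ℤ} (hl : k + δX x = l) (v : AlgebraicCycle T.Y ℤ)
    (hv : v ∈ Cyc.Zk T.Y T.δY k) {U : AlgebraicCycle T.P ℤ}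
    (hU : ∀ z, U z = ExtP17.pointProd T.q₂ T.q₁ T.δY δX T.δP ⇑v x z) (y : X) :
    AlgebraicCycle.map T.q₁ T.δP δX U y = ChowOps.deg T.pY T.δY v * (if x = y then 1 else 0) := by
  classical
  have hl' : k + ((δX x).toNat : ℤ) = l := by rw [delta_nonneg hX hδX]; exact hl
  obtain ⟨v', hv', e⟩ := exists_pullCycle (πx T x) (relDim_πx hX hδX T x) (sx hX hδX T x) (T.sY hX)
    (compat_πx hX hδX T x) hl' hv
  have hUm : U = AlgebraicCycle.map (jx T x) (δx T x) T.δP v' := by
    ext z
    rw [hU, map_jx_eq hX hδX T x v v' e z]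
  haveI : IsProper (pullback.snd T.q₁ (CycPush.clι x)) :=
    MorphismProperty.of_isPullback (P := @IsProper) (isPullback_x T x) inferInstance
  have hW' : Cyc.IsDimFun (CycPush.clSub x) (fun w => δX (CycPush.clι x w)) :=
    haveI := hX.1
    CycPush.isDimFun_closedImmersion (CycPush.clι x) hX.2.2
  have hc' : Cyc.DeltaCompat (pullback.snd T.q₁ (CycPush.clι x)) (δx T x) (fun w => δX (CycPush.clι x w)) :=
    C1.deltaCompat_of_comp _ (CycPush.clι x) (jx T x ≫ T.q₁) pullback.condition.symm
      (PBDeg.deltaCompat_closed (CycPush.clι x) δX) (deltaCompat_comp' _ T.q₁ (compat_jx hX hδX T x) T.hq₁)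
  have hWc : Cyc.DeltaCompat (CycPush.clι x ≫ pX) (fun w => δX (CycPush.clι x w)) (fun _ => 0) :=
    deltaCompat_comp' _ pX (PBDeg.deltaCompat_closed (CycPush.clι x) δX) hδX
  have hbc := C1.BasePush.pullFun_map (isPullback_x T x).flip hW' T.hY hc'
    (shift_of_hasRelDim _ (relDim_clι hX hδX x) hWc) v v' e
  rw [hUm, CycBasic.map_map (jx T x) T.q₁ _ _ _ (compat_jx hX hδX T x) T.hq₁,
    ExtP17.map_congr_hom (pullback.condition : jx T x ≫ T.q₁ = pullback.snd T.q₁ (CycPush.clι x) ≫ CycPush.clι x),
    ← CycBasic.map_map (pullback.snd T.q₁ (CycPush.clι x)) (CycPush.clι x) _ (fun w => δX (CycPush.clι x w)) δX hc'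
      (PBDeg.deltaCompat_closed (CycPush.clι x) δX)]
  by_cases hy : y ∈ Set.range (CycPush.clι x)
  · obtain ⟨w, rfl⟩ := hy
    rw [CycPush.map_apply_of_preimmersion (CycPush.clι x) δX (fun _ => rfl), ← hbc, pullFun_apply]
    by_cases hw : w = genericPoint (CycPush.clSub x)
    · subst hw
      haveI : Flat (CycPush.clι x ≫ pX) := by
        haveI : Subsingleton ↥(Spec (CommRingCat.of K)) := inferInstanceAs (Subsingleton (PrimeSpectrum K))
        infer_instance
      have hF : IsField ((CycPush.clSub x).presheaf.stalk (genericPoint (CycPush.clSub x))) :=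
        Field.toIsField (CycPush.clSub x).functionField
      have hlen : fibLength (CycPush.clι x ≫ pX) (genericPoint (CycPush.clSub x)) = 1 := by
        set f := CycPush.clι x ≫ pX with hf
        set η := genericPoint (CycPush.clSub x) with hη
        have hbot : (maximalIdeal ((Spec (CommRingCat.of K)).presheaf.stalk (f η))).map (f.stalkMap η).hom =
            maximalIdeal ((CycPush.clSub x).presheaf.stalk η) := by
          refine le_antisymm (IsLocalRing.le_maximalIdeal fun h => ?_) ?_
          · have hloc : IsLocalHom (f.stalkMap η).hom := inferInstance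
            have hle := ((IsLocalRing.local_hom_TFAE (f.stalkMap η).hom).out 0 2).1 hloc
            rw [h] at hle
            exact (maximalIdeal.isMaximal ((CycPush.clSub x).presheaf.stalk η)).ne_top (top_le_iff.1 hle)
          · rw [(IsLocalRing.isField_iff_maximalIdeal_eq.1 hF)]
            exact bot_le
        show Module.length _ (_ ⧸ Ideal.map _ _) = 1
        rw [hbot, Module.length_eq_one_iff, isSimpleModule_iff_isCoatom]
        exact (IsLocalRing.maximalIdeal.isMaximal _).out
      rw [if_pos (show δX (CycPush.clι x _) = 0 + ((δX x).toNat : ℤ) by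
          rw [CycPush.clι_genericPoint, delta_nonneg hX hδX, zero_add]),
        if_pos (CycPush.clι_genericPoint x).symm, hlen, ENat.toNat_one, Nat.cast_one, mul_one, mul_one]
      exact congrArg _ (Subsingleton.elim (α := PrimeSpectrum K) _ _)
    · have hne : x ≠ CycPush.clι x w := fun h => hw ((CycPush.clι x).isClosedEmbedding.injective
        (h.symm.trans (CycPush.clι_genericPoint x).symm))
      rw [if_neg fun h => ?_, if_neg hne, mul_zero]
      have := (hX.2.2 x (CycPush.clι x w) ((CycPush.mem_range_clι x).1 ⟨w, rfl⟩) hne).1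
      rw [delta_nonneg hX hδX] at h
      omega
  · rw [CycPush.map_apply_of_notMem_range (CycPush.clι x) δX _ _ hy,
      if_neg fun (h : x = y) => hy ((CycPush.mem_range_clι x).2 (h ▸ specializes_rfl)), mul_zero]

end GrothLib.KronOp

end
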