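import Groth.Agent.Lib.ExtP17.KronAlg
import Mathlib.Algebra.DirectSum.Module
import Mathlib.LinearAlgebra.TensorProduct.Basic

/-!
# Operational classes from functionals, under the Künneth property
-/

set_option autoImplicit false
set_option backward.isDefEq.respectTransparency false
set_option linter.style.haveILetI false
set_option linter.unusedVariables false
set_option maxHeartbeats 800000
set_option synthInstance.maxHeartbeats 200000

universe u

open CategoryTheory CategoryTheory.Limits AlgebraicGeometry IsLocalRing TopologicalSpace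
open GrothLib.CycFlat
open scoped TensorProduct DirectSum

noncomputable section

namespace GrothLib.KronOp

open GrothLib GrothLib.C1 GrothLib.PBDeg

variable {K : Type u} [Field K] {X : Scheme.{u}} {pX : X ⟶ Spec (CommRingCat.of K)} [IsProper pX] {δX : X → ℤ}
  (hX : Cyc.IsSetup X δX) (hδX : Cyc.DeltaCompat pX δX (fun _ => 0))

variable {p : ℤ} (φ : ChowOps.CH X δX p →+ ℤ) (Dat : ∀ s : Bivar.OSq X δX, KData (mkT hδX s))

section Generic

variable {U : ℤ → Type u} {V : ℤ → Type u} {Z : Type*} [∀ a, AddCommGroup (U a)] [∀ a, AddCommGroup (V a)]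
  [AddCommGroup Z]

theorem addHom_eq_of_tmul (F G : (⨁ a, U a ⊗[ℤ] V a) →+ Z)
    (h : ∀ a u v, F (DirectSum.lof ℤ ℤ (fun a => U a ⊗[ℤ] V a) a (u ⊗ₜ v)) =
      G (DirectSum.lof ℤ ℤ (fun a => U a ⊗[ℤ] V a) a (u ⊗ₜ v)))
    (w : ⨁ a, U a ⊗[ℤ] V a) : F w = G w := by
  induction w using DirectSum.induction_on with
  | zero => rw [map_zero, map_zero]
  | add x y hx hy => rw [map_add, map_add, hx, hy]
  | of a t =>
    induction t using TensorProduct.induction_on with
    | zero => rw [map_zero, map_zero, map_zero]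
    | add x y hx hy => rw [map_add, map_add, map_add, hx, hy]
    | tmul u v => rw [← DirectSum.lof_eq_of ℤ]; exact h a u v

end Generic

include hX in
/-- A class with the given Kronecker functional is the class of the functional. -/
theorem op_eq_of_kronecker (c : Bivar.OpCl p X δX)
    (hc : ∀ (α : AlgebraicCycle X ℤ) (hα : α ∈ Cyc.Zk X δX p) (β : AlgebraicCycle X ℤ)
      (hβ : β ∈ Cyc.Zk X δX (p - p)), c.cap p (ChowOps.cl α hα) = ChowOps.cl β hβ →
        φ (ChowOps.cl α hα) = ChowOps.deg pX δX β)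
    (s : Bivar.OSq X δX) (k : ℤ) : c.op s k = opS hX hδX φ Dat s k := by
  classical
  refine AddMonoidHom.ext fun z => ?_
  let S := mkT hδX s
  let sP : Bivar.OSq X δX := ⟨S.P, S.q₁, inferInstance, S.δP, S.hq₁⟩
  have hμ := pushH S.q₂ (S.sP hX) (S.sY hX) (S.hq₂ hδX) (k - p)
  have hpush : pushH S.q₂ (S.sP hX) (S.sY hX) (S.hq₂ hδX) (k - p)
      (c.op sP k (pushH (gam hδX s) (S.sY hX) (S.sP hX) (gam_compat hδX s) k z)) = c.op s k z := by
    obtain ⟨α, hα, rfl⟩ := Bivar.exists_rep z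
    obtain ⟨β, hβ, e₁, e₂⟩ := c.push sP s (gam hδX s) (gam_fst hδX s) k α hα
    refine Eq.trans ?_ e₁.symm
    rw [pushH_cl]
    erw [e₂]
    refine (congrArg _ (pushH_cl (gam hδX s) (S.sY hX) (S.sP hX) (gam_compat hδX s) β hβ).symm).trans ?_
    exact pushH_id_comp (gam_snd hδX s) _ _ _ _ _ _
  have hgen : ∀ w : (⨁ a : ℤ, ChowOps.CH X δX a ⊗[ℤ] ChowOps.CH S.Y S.δY (k - a)),
      pushH S.q₂ (S.sP hX) (S.sY hX) (S.hq₂ hδX) (k - p) (c.op sP k ((Dat s).e k w)) = contr φ S k w := by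
    refine addHom_eq_of_tmul ((((pushH S.q₂ (S.sP hX) (S.sY hX) (S.hq₂ hδX) (k - p)).comp (c.op sP k)).comp
      ((Dat s).e k).toLinearMap.toAddMonoidHom)) (contr φ S k).toAddMonoidHom fun a u v => ?_
    simp only [AddMonoidHom.comp_apply, LinearMap.toAddMonoidHom_coe, LinearEquiv.coe_coe]
    erw [(Dat s).e_lof]
    obtain ⟨u, hu, rfl⟩ := Bivar.exists_rep u
    obtain ⟨v, hv, rfl⟩ := Bivar.exists_rep v
    obtain ⟨β, hβ, hβe⟩ := Bivar.exists_rep (c.cap a (ChowOps.cl u hu))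
    let vp : AlgebraicCycle S.Y ℤ := C1.toCycle (fun y => max (v y) 0) fun y => by
      obtain ⟨U, hy, hfin⟩ := C1.LF.of_cycle v y
      refine ⟨U, hy, hfin.subset fun t ht => ⟨ht.1, fun h => ht.2 ?_⟩⟩
      show max (v t) 0 = 0
      rw [h, max_self]
    have hvp : ∀ y, vp y = max (v y) 0 := fun y => rfl
    have hvpk : vp ∈ Cyc.Zk S.Y S.δY (k - a) := fun y hy => by rw [hvp, hv y hy, max_self]
    obtain ⟨U₁, B₁, hU₁, hB₁, hU₁e, ho₁, hd₁⟩ := ExtP17.exists_prodData hδX S.hY S.hsq (S.hP hX hδX) c S.hq₁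
      inferInstance (a := a) (b := k - a) (m := k) (by ring) hu hβ hβe.symm hvpk fun y => le_max_right _ _
    obtain ⟨U₂, B₂, hU₂, hB₂, hU₂e, ho₂, hd₂⟩ := ExtP17.exists_prodData hδX S.hY S.hsq (S.hP hX hδX) c S.hq₁
      inferInstance (a := a) (b := k - a) (m := k) (by ring) hu hβ hβe.symm
      (v := vp - v) ((ChowOps.zk S.Y S.δY (k - a)).sub_mem hvpk hv) fun y => by
        rw [Function.locallyFinsuppWithin.coe_sub, Pi.sub_apply, hvp]
        exact sub_nonneg.2 (le_max_left _ _)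
    have hκ : (Dat s).κ a k (ChowOps.cl u hu) (ChowOps.cl v hv) = ChowOps.cl U₁ hU₁ - ChowOps.cl U₂ hU₂ := by
      refine ((Dat s).spec a k u hu v hv (U₁ - U₂) ((ChowOps.zk S.P S.δP k).sub_mem hU₁ hU₂) fun t => ?_).trans
        (map_sub (ChowOps.clHom S.P S.δP k) ⟨U₁, hU₁⟩ ⟨U₂, hU₂⟩)
      rw [Function.locallyFinsuppWithin.coe_sub, Pi.sub_apply, hU₁e, hU₂e, ExtP17.prodFun, ExtP17.prodFun,
        Function.locallyFinsuppWithin.coe_sub, Pi.sub_apply, ExtP17.pointProd]
      by_cases h : S.δP t = δX (S.q₁ t) + S.δY (S.q₂ t)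
      · rw [if_pos h, if_pos ⟨rfl, h⟩]
        ring
      · rw [if_neg h, if_neg fun h' => h h'.2]
        ring
    rw [hκ, map_sub]
    erw [ho₁, ho₂]
    rw [map_sub, pushH_cl, pushH_cl]
    refine (map_sub (ChowOps.clHom S.Y S.δY (k - p)) ⟨_, Bivar.cycMap_mem_Zk S.q₂ S.δP S.δY (k - p) hB₁⟩
      ⟨_, Bivar.cycMap_mem_Zk S.q₂ S.δP S.δY (k - p) hB₂⟩).symm.trans ?_
    by_cases h : a = p
    · subst h
      rw [contr_lof_self, hc u hu β hβ hβe.symm]
      refine (congrArg (ChowOps.clHom S.Y S.δY (k - a)) (Subtype.ext ?_)).trans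
        (map_zsmul (ChowOps.clHom S.Y S.δY (k - a)) (ChowOps.deg pX δX β) ⟨v, hv⟩)
      ext y
      show (AlgebraicCycle.map S.q₂ S.δP S.δY B₁ - AlgebraicCycle.map S.q₂ S.δP S.δY B₂) y = _
      rw [Function.locallyFinsuppWithin.coe_sub, Pi.sub_apply, hd₁, hd₂, Function.locallyFinsuppWithin.coe_sub,
        Pi.sub_apply]
      show _ = ChowOps.deg pX δX β * v y
      ring
    · rw [contr_lof_ne φ h]
      refine (congrArg (ChowOps.clHom S.Y S.δY (k - p)) (Subtype.ext ?_)).trans (map_zero _)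
      ext y
      show (AlgebraicCycle.map S.q₂ S.δP S.δY B₁ - AlgebraicCycle.map S.q₂ S.δP S.δY B₂) y = 0
      rw [Function.locallyFinsuppWithin.coe_sub, Pi.sub_apply, hd₁, hd₂,
        show ChowOps.deg pX δX β = 0 from Bivar.cycMap_mem_Zk pX δX (fun _ => (0 : ℤ)) (a - p) hβ
          (IsLocalRing.closedPoint K) (Ne.symm (sub_ne_zero.2 h))]
      simp
  have := hgen (((Dat s).e k).symm (pushH (gam hδX s) (S.sY hX) (S.sP hX) (gam_compat hδX s) k z))
  exact hpush.symm.trans ((congrArg (fun w => pushH S.q₂ (S.sP hX) (S.sY hX) (S.hq₂ hδX) (k - p) (c.op sP k w))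
    (((Dat s).e k).apply_symm_apply _).symm).trans this)

include hX in
/-- The class of a functional has this Kronecker functional. -/
theorem kronCl_kronecker (α : AlgebraicCycle X ℤ) (hα : α ∈ Cyc.Zk X δX p) (β : AlgebraicCycle X ℤ)
    (hβ : β ∈ Cyc.Zk X δX (p - p)) (h : opS hX hδX φ Dat (Bivar.OSq.self X δX) p (ChowOps.cl α hα) = ChowOps.cl β hβ) :
    φ (ChowOps.cl α hα) = ChowOps.deg pX δX β := by
  classical
  let s := Bivar.OSq.self X δX
  let S := mkT hδX s
  haveI hpY : IsProper S.pY := inferInstanceAs (IsProper (𝟙 X ≫ pX))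
  haveI : IsProper S.q₁ := MorphismProperty.of_isPullback (P := @IsProper) S.hsq.flip hpY
  obtain ⟨dg, hdg⟩ := exists_degHom S.pY (S.sY hX) S.hY (p - p)
  have hgen : ∀ w : (⨁ a : ℤ, ChowOps.CH X δX a ⊗[ℤ] ChowOps.CH S.Y S.δY (p - a)),
      φ (pushH S.q₁ (S.sP hX) hX S.hq₁ p ((Dat s).e p w)) = dg (contr φ S p w) := by
    refine addHom_eq_of_tmul ((φ.comp (pushH S.q₁ (S.sP hX) hX S.hq₁ p)).comp ((Dat s).e p).toLinearMap.toAddMonoidHom)
      (dg.comp (contr φ S p).toAddMonoidHom) fun a u v => ?_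
    simp only [AddMonoidHom.comp_apply, LinearMap.toAddMonoidHom_coe, LinearEquiv.coe_coe]
    erw [(Dat s).e_lof]
    obtain ⟨u, hu, rfl⟩ := Bivar.exists_rep u
    obtain ⟨v, hv, rfl⟩ := Bivar.exists_rep v
    have hx : ∀ x ∈ (finite_supp hX hδX u).toFinset, p - a + δX x = p := fun x hx => by
      rw [zk_supp hu x ((finite_supp hX hδX u).mem_toFinset.1 hx)]
      ring
    choose U hU hE hUe using fun (x : (finite_supp hX hδX u).toFinset) => E_cl hX hδX S x.1 (hx x.1 x.2) v hv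
    have hdv : ∀ y, ∀ x : (finite_supp hX hδX u).toFinset, AlgebraicCycle.map S.q₁ S.δP δX (U x) y =
        ChowOps.deg S.pY S.δY v * (if x.1 = y then 1 else 0) := fun y x =>
      push_fst_E hX hδX S x.1 (hx x.1 x.2) v hv (hUe x) y
    have hq : pushH S.q₁ (S.sP hX) hX S.hq₁ p ((Dat s).κ a p (ChowOps.cl u hu) (ChowOps.cl v hv)) =
        ∑ x ∈ (finite_supp hX hδX u).toFinset.attach, u x.1 • ChowOps.cl (AlgebraicCycle.map S.q₁ S.δP δX (U x))
          (Bivar.cycMap_mem_Zk S.q₁ S.δP δX p (hU x)) := by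
      rw [kappa_eq_sum hX hδX, map_sum,
        ← Finset.sum_attach (finite_supp hX hδX u).toFinset (fun x => pushH S.q₁ (S.sP hX) hX S.hq₁ p (u x • _))]
      refine Finset.sum_congr rfl fun x _ => ?_
      rw [map_zsmul, hE x, pushH_cl]
    rw [hq]
    by_cases h : a = p
    · subst h
      rw [contr_lof_self, map_zsmul, hdg, smul_eq_mul, mul_comm, ← smul_eq_mul, ← map_zsmul]
      refine congrArg φ ?_
      refine Eq.trans ?_ (map_zsmul (ChowOps.clHom X δX a) (ChowOps.deg S.pY S.δY v) ⟨u, hu⟩)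
      refine ((map_sum (ChowOps.clHom X δX a) (fun x => u x.1 •
        (⟨_, Bivar.cycMap_mem_Zk S.q₁ S.δP δX a (hU x)⟩ : ↥(ChowOps.zk X δX a))) _).trans
          (Finset.sum_congr rfl fun x _ => map_zsmul (ChowOps.clHom X δX a) _ _)).symm.trans ?_
      refine congrArg (ChowOps.clHom X δX a) (Subtype.ext ?_)
      ext y
      show ((∑ x ∈ _, u x.1 • (⟨_, Bivar.cycMap_mem_Zk S.q₁ S.δP δX a (hU x)⟩ : ↥(ChowOps.zk X δX a)) :
        ↥(ChowOps.zk X δX a)) : AlgebraicCycle X ℤ) y = ChowOps.deg S.pY S.δY v * u y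
      rw [AddSubmonoidClass.coe_finsetSum, Function.locallyFinsuppWithin.coe_sum, Finset.sum_apply]
      rw [Finset.sum_congr rfl fun x _ => show _ = u x.1 * (ChowOps.deg S.pY S.δY v * if x.1 = y then 1 else 0) by
        rw [← hdv y x]; rfl,
        Finset.sum_attach _ (fun x => u x * (ChowOps.deg S.pY S.δY v * if x = y then 1 else 0)),
        Finset.sum_eq_single y]
      · rw [if_pos rfl]; ring
      · intro x _ hne
        rw [if_neg hne, mul_zero, mul_zero]
      · intro hy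
        rw [Set.Finite.mem_toFinset, Set.mem_ofPred_eq, not_not] at hy
        rw [hy, zero_mul]
    · rw [contr_lof_ne φ h, map_zero]
      refine (congrArg φ ?_).trans (map_zero φ)
      refine Finset.sum_eq_zero fun x _ => ?_
      have hdeg0 : ChowOps.deg S.pY S.δY v = 0 := Bivar.cycMap_mem_Zk S.pY S.δY (fun _ => (0 : ℤ)) (p - a) hv
        (IsLocalRing.closedPoint K) (Ne.symm (sub_ne_zero.2 (Ne.symm h)))
      rw [Bivar.cl_congr (show AlgebraicCycle.map S.q₁ S.δP δX (U x) = 0 by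
        ext y; rw [hdv y x, hdeg0, zero_mul]; rfl) _ ((ChowOps.zk X δX p).zero_mem), Bivar.cl_zero, zsmul_zero]
  have := hgen (((Dat s).e p).symm (pushH (gam hδX s) (S.sY hX) (S.sP hX) (gam_compat hδX s) p (ChowOps.cl α hα)))
  have hS := congrArg (fun z => φ (pushH S.q₁ (S.sP hX) hX S.hq₁ p z))
    (((Dat s).e p).apply_symm_apply (pushH (gam hδX s) (S.sY hX) (S.sP hX) (gam_compat hδX s) p (ChowOps.cl α hα)))
  replace this := hS.symm.trans this
  erw [pushH_id_comp (gam_fst hδX s)] at this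
  refine this.trans ((congrArg dg h).trans ((hdg β hβ).trans ?_))
  show AlgebraicCycle.map (𝟙 X ≫ pX) δX _ β (closedPoint K) = AlgebraicCycle.map pX δX _ β (closedPoint K)
  rw [ExtP17.map_congr_hom (Category.id_comp pX)]

end GrothLib.KronOp

end
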